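import Cfsg.Agent.Lib.InvE66.Recur

/-!
Certificates reducing the products over orthogonal roots to a list of representatives.
-/

set_option autoImplicit false

namespace Cfsg.Agent.Lib.InvE66

open Cfsg.Lie Cfsg.Agent.Lib.Chev Cfsg.Agent.Lib.ChevCent
open scoped Matrix

/-- Insert `x_a(1)` in front of a sorted word, collecting by the commutation rules. -/
def insW (D : ChevalleyDatum) (C : Cert) : ℕ → ℕ → List ℕ → List ℕ
  | 0, a, l => a :: l
  | _ + 1, a, [] => [a]
  | n + 1, a, b :: l =>
    if a < b then a :: b :: l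
    else if a = b then l
    else match cTerms C a b with
      | [] => b :: insW D C n a l
      | (τ, _) :: _ => b :: insW D C n a (insW D C n τ l)

/-- The normal form of a word of positive root elements with unit coefficients. -/
def nfW (D : ChevalleyDatum) (C : Cert) (L : List ℕ) : List ℕ := L.foldr (insW D C 40) []

/-- A transition: a root, a word and the number of the representative reached. -/
abbrev WStep : Type := ℕ × List ℕ × ℕ

/-- A reduction: a conjugating word, the new product, a word and the number of the representative reached. -/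
abbrev WRed : Type := List ℕ × List ℕ × List ℕ × ℕ

/-- The certificate: the representatives (the first ones are the classes), the transitions, the reductions. -/
structure OrbitTab where
  reps : List (List ℕ)
  rows : List (List WStep)
  reds : List WRed
  keep : ℕ

/-- The word sends the list to a permutation of the representative. -/
def chkMove (D : ChevalleyDatum) (C : Cert) (T : OrbitTab) (W S : List ℕ) (j : ℕ) : Bool :=
  W.all (fun i => Nat.blt i D.rank) && Nat.blt j T.reps.length &&
    (S.map (perm C W)).isPerm (T.reps.getD j [])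

/-- A witness that the roots are not orthogonal. -/
def chkApart (D : ChevalleyDatum) (C : Cert) (β γ : ℕ) : Bool :=
  Nat.beq γ β || Nat.beq γ (ng D β) || !(cE C β γ).isEmpty || !(cE C β (ng D γ)).isEmpty

/-- Positive, and pairwise without commutator terms. -/
def chkFlat (D : ChevalleyDatum) (C : Cert) : List ℕ → Bool
  | [] => true
  | a :: l => Nat.ble (D.nroots / 2) a && Nat.blt a D.nroots &&
      l.all (fun b => (cTerms C a b).isEmpty) && chkFlat D C l

def chkReps (D : ChevalleyDatum) (C : Cert) (T : OrbitTab) : Bool :=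
  T.reps.all (chkFlat D C) && T.reps.contains [] && Nat.ble T.keep T.reps.length

def chkRows (D : ChevalleyDatum) (C : Cert) (T : OrbitTab) : Bool :=
  allN T.reps.length fun i => allN D.nroots fun γ =>
    (T.reps.getD i []).any (fun β => chkApart D C β γ) ||
      (T.rows.getD i []).any fun s => Nat.beq s.1 γ && chkMove D C T s.2.1 (γ :: T.reps.getD i []) s.2.2

def chkReds (D : ChevalleyDatum) (C : Cert) (T : OrbitTab) : Bool :=
  allN T.reps.length fun i => Nat.blt i T.keep ||
    let d := T.reds.getD (i - T.keep) ([], [], [], 0)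
    d.1.all (fun r => Nat.ble (D.nroots / 2) r && Nat.blt r D.nroots) && chkFlat D C d.2.1 &&
      decide (nfW D C (d.1 ++ T.reps.getD i [] ++ d.1.reverse) = nfW D C d.2.1) &&
      Nat.blt d.2.2.2 i && chkMove D C T d.2.2.1 d.2.1 d.2.2.2

variable {D : ChevalleyDatum} {C : Cert} {F : Type*} [Field F]

namespace Laced

variable (h : Laced D C)
include h

local notation "X" => xg h.toRooted.toChecked
local notation "PX" => prodX h.toRooted.toChecked F

theorem prodX_nil : PX [] = 1 := by simp [prodX, word]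

theorem prodX_append (L L' : List ℕ) : PX (L ++ L') = PX L * PX L' := word_append _ _ _ _

theorem insW_spec [CharP F 2] : ∀ (n a : ℕ) (l : List ℕ), a ∈ posSet D → (∀ b ∈ l, b ∈ posSet D) →
    (∀ b ∈ insW D C n a l, b ∈ posSet D) ∧ PX (insW D C n a l) = X a 1 * PX l
  | 0, a, l, ha, hl => ⟨fun b hb => by
      rcases List.mem_cons.1 hb with rfl | hb
      · exact ha
      · exact hl b hb, h.prodX_cons a l⟩
  | n + 1, a, [], ha, hl => ⟨fun b hb => by
      rw [insW, List.mem_singleton] at hb
      subst hb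
      exact ha, h.prodX_cons a []⟩
  | n + 1, a, b :: l, ha, hl => by
    have hb := hl b List.mem_cons_self
    have hl' : ∀ x ∈ l, x ∈ posSet D := fun x hx => hl x (List.mem_cons_of_mem _ hx)
    unfold insW
    by_cases h1 : a < b
    · rw [if_pos h1]
      refine ⟨fun x hx => ?_, h.prodX_cons a _⟩
      rcases List.mem_cons.1 hx with rfl | hx
      · exact ha
      · exact hl x hx
    rw [if_neg h1]
    by_cases h2 : a = b
    · subst h2
      rw [if_pos rfl, h.prodX_cons, ← mul_assoc, xg_mul_self, one_mul]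
      exact ⟨hl', rfl⟩
    rw [if_neg h2]
    have hne : b ≠ ng D a := Checked.ne_ng_of_pos ha hb h.toRooted.toChecked.two_mul_half
    rcases h.pair_cases ha.2 b hb.2 (Ne.symm h2) hne with ⟨e, τ, c, hx, -⟩ | ⟨e, hx⟩
    · rw [hx]
      have hτ : sumR C a b = τ := by simp [sumR, hx]
      have hτp : τ ∈ posSet D := hτ ▸ h.sum_pos ha hb e
      obtain ⟨p1, e1⟩ := insW_spec n τ l hτp hl'
      obtain ⟨p2, e2⟩ := insW_spec n a _ ha p1
      refine ⟨fun x hx' => ?_, ?_⟩
      · rcases List.mem_cons.1 hx' with rfl | hx'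
        · exact hb
        · exact p2 x hx'
      rw [h.prodX_cons, h.prodX_cons, e2, e1]
      have e' : prs D C b a = -1 := by rw [h.prs_comm hb.2 ha.2, e]
      have e3 := h.conj_sum (F := F) hb.2 ha.2 e' 1 1
      rw [one_mul, ← h.sum_comm ha.2 hb.2 e, hτ, xg_inv_two] at e3
      have hτn := (h.sum_spec ha.2 hb.2 e).1
      rw [hτ] at hτn
      have c1 : Commute (X τ (1 : F)) (X b 1) := h.commute_of_nonneg hτn hb.2 (by
        rw [h.prs_comm hτn hb.2, ← hτ, h.prs_sum ha.2 hb.2 e, h.prs_self hb.2, e']; norm_num) _ _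
      have c2 : Commute (X τ (1 : F)) (X a 1) := h.commute_of_nonneg hτn ha.2 (by
        rw [h.prs_comm hτn ha.2, ← hτ, h.prs_sum ha.2 hb.2 e, h.prs_self ha.2, e]; norm_num) _ _
      have e4 : X a (1 : F) * X b 1 = X b 1 * X a 1 * X τ 1 := by
        rw [← (c1.mul_right c2).eq, ← mul_assoc, ← e3, mul_assoc _ (X a 1) (X a 1), xg_mul_self, mul_one]
      calc X b 1 * (X a 1 * (X τ 1 * PX l)) = X b 1 * X a 1 * X τ 1 * PX l := by simp only [mul_assoc]
        _ = _ := by rw [← e4, mul_assoc]
    · rw [hx]
      obtain ⟨p2, e2⟩ := insW_spec n a l ha hl'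
      refine ⟨fun x hx' => ?_, ?_⟩
      · rcases List.mem_cons.1 hx' with rfl | hx'
        · exact hb
        · exact p2 x hx'
      rw [h.prodX_cons, h.prodX_cons, e2, ← mul_assoc, ← mul_assoc,
        (h.commute_of_nonneg ha.2 hb.2 (by omega) (1 : F) 1).eq]

theorem nfW_spec [CharP F 2] : ∀ L : List ℕ, (∀ b ∈ L, b ∈ posSet D) →
    (∀ b ∈ nfW D C L, b ∈ posSet D) ∧ PX (nfW D C L) = PX L
  | [], _ => ⟨by simp [nfW], rfl⟩
  | a :: L, hL => by
    obtain ⟨p, e⟩ := nfW_spec L fun b hb => hL b (List.mem_cons_of_mem _ hb)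
    obtain ⟨p', e'⟩ := h.insW_spec (F := F) 40 a _ (hL a List.mem_cons_self) p
    exact ⟨p', by rw [h.prodX_cons, ← e]; exact e'⟩

theorem prodX_reverse [CharP F 2] : ∀ L : List ℕ, PX L.reverse = (PX L)⁻¹
  | [] => by simp [prodX, word]
  | a :: L => by
    rw [List.reverse_cons, h.prodX_append, prodX_reverse L, h.prodX_cons, h.prodX_cons, h.prodX_nil, mul_one,
      mul_inv_rev, xg_inv_two]

theorem prs_perm : ∀ {W : List ℕ}, IsWord D W → ∀ {r s : ℕ}, r < D.nroots → s < D.nroots →
    prs D C (perm C W r) (perm C W s) = prs D C r s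
  | [], _, _, _, _, _ => rfl
  | i :: W, hW, r, s, hr, hs => by
    rw [perm_cons, perm_cons, h.prs_refl hW.cons.1 (h.toRooted.toChecked.perm_lt hW.cons.2 hr)
      (h.toRooted.toChecked.perm_lt hW.cons.2 hs), prs_perm hW.cons.2 hr hs]

theorem nS_mem {i : ℕ} (hi : i < D.rank) : nS h.toRooted.toChecked F i ∈ D.group F := by
  have hc := h.toRooted.toChecked
  have hp := hc.simple_lt hi
  have e : nS h.toRooted.toChecked F i =
      X (D.simple i) (1 : F) * X (ng D (D.simple i)) (-1) * X (D.simple i) 1 := by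
    refine Units.ext ?_
    rw [coe_nS _ hi, Units.val_mul, Units.val_mul, coe_xg, coe_xg]
    simp only [ChevalleyDatum.nMat, ChevalleyDatum.nWord, ChevalleyDatum.wordMat, hc.neg_eq hp, List.map_cons,
      List.map_nil, List.prod_cons, List.prod_nil, mul_one, inv_one, mul_assoc]
  have hm : ∀ r < D.nroots, ∀ t : F, X r t ∈ D.group F := fun r hr t =>
    rootGen_le_group (S := {r}) (fun a (ha : a = r) => ha ▸ hr) (h.xg_mem (S := {r}) (Set.mem_singleton r) t)
  rw [e]
  exact mul_mem (mul_mem (hm _ hp _) (hm _ (Checked.ng_lt hp) _)) (hm _ hp _)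

theorem nProd_mem {W : List ℕ} (hW : IsWord D W) : nProd h.toRooted.toChecked F W ∈ D.group F :=
  list_prod_mem fun x hx => by
    obtain ⟨i, hi, rfl⟩ := List.mem_map.1 hx
    exact h.nS_mem (hW i hi)

theorem nProd_conj [CharP F 2] {W : List ℕ} (hW : IsWord D W) : ∀ S : List ℕ, (∀ r ∈ S, r < D.nroots) →
    nProd h.toRooted.toChecked F W * PX S * (nProd h.toRooted.toChecked F W)⁻¹ = PX (S.map (perm C W))
  | [], _ => by simp [prodX, word]
  | a :: S, hS => by
    rw [List.map_cons, h.prodX_cons, h.prodX_cons, ← nProd_conj hW S fun r hr => hS r (List.mem_cons_of_mem _ hr)]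
    have ha := hS a List.mem_cons_self
    have e : nProd h.toRooted.toChecked F W * X a 1 * (nProd h.toRooted.toChecked F W)⁻¹ = X (perm C W a) 1 := by
      rw [mul_inv_eq_iff_eq_mul]
      refine Units.ext ?_
      rw [Units.val_mul, Units.val_mul, coe_xg, coe_xg, h.toRooted.toChecked.nProd_mul_x hW ha, weta_cast,
        one_mul]
    rw [← e]
    group

omit h in
theorem chkFlat_spec : ∀ {L : List ℕ}, chkFlat D C L = true →
    (∀ r ∈ L, r ∈ posSet D) ∧ L.Pairwise (fun a b => cTerms C a b = [])
  | [], _ => ⟨by simp, List.Pairwise.nil⟩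
  | a :: l, hb => by
    simp only [chkFlat, Bool.and_eq_true, Nat.ble_eq, Nat.blt_eq, List.all_eq_true, List.isEmpty_iff] at hb
    obtain ⟨p, q⟩ := chkFlat_spec hb.2
    refine ⟨fun r hr => ?_, List.Pairwise.cons hb.1.2 q⟩
    rcases List.mem_cons.1 hr with rfl | hr
    · exact hb.1.1
    · exact p r hr

theorem flat_commute [CharP F 2] {L : List ℕ} (hb : chkFlat D C L = true) :
    (L.map fun r => X r (1 : F)).Pairwise Commute := by
  obtain ⟨p, q⟩ := chkFlat_spec hb
  rw [List.pairwise_map]
  refine List.Pairwise.imp_of_mem (fun {a b} ha hb' e => ?_) q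
  exact xg_commute h.toRooted.toChecked (p a ha).2 (p b hb').2
    (Checked.ne_ng_of_pos (p a ha) (p b hb') h.toRooted.toChecked.two_mul_half)
    (Or.inr (by simp [evenTerms, e])) 1 1

theorem prodX_sq [CharP F 2] {L : List ℕ} (hb : chkFlat D C L = true) : PX L * PX L = 1 := by
  obtain ⟨p, -⟩ := chkFlat_spec hb
  induction L with
  | nil => simp [prodX, word]
  | cons a l ih =>
    simp only [chkFlat, Bool.and_eq_true] at hb
    have hcm := h.flat_commute (F := F) (L := a :: l) (by simp only [chkFlat, Bool.and_eq_true]; exact hb)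
    rw [List.map_cons, List.pairwise_cons] at hcm
    have hc : Commute (X a (1 : F)) (PX l) := Commute.list_prod_right _ _ fun y hy => hcm.1 y hy
    rw [h.prodX_cons, ← Commute.mul_mul_mul_comm hc, xg_mul_self, one_mul]
    exact ih hb.2 fun r hr => p r (List.mem_cons_of_mem _ hr)

theorem prodX_mem {L : List ℕ} (hL : ∀ r ∈ L, r < D.nroots) : PX L ∈ D.group F :=
  rootGen_le_group (S := {r | r ∈ L}) hL (word_mem _ (fun _ hr => hr) _)

theorem prodX_perm [CharP F 2] {S R : List ℕ} (hR : chkFlat D C R = true) (e : S.Perm R) : PX S = PX R := by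
  simp only [prodX, word]
  exact (List.Perm.prod_eq' (e.symm.map _) (h.flat_commute hR)).symm

section Tab

variable {T : OrbitTab} (h1 : chkReps D C T = true) (h2 : chkRows D C T = true) (h3 : chkReds D C T = true)

include h1 in
theorem rep_flat (j : ℕ) : chkFlat D C (T.reps.getD j []) = true := by
  simp only [chkReps, Bool.and_eq_true, List.all_eq_true] at h1
  by_cases hj : j < T.reps.length
  · rw [List.getD_eq_getElem _ _ hj]
    exact h1.1.1 _ (List.getElem_mem _)
  · rw [List.getD_eq_default _ _ (by omega)]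
    rfl

include h1 h2 in
theorem exists_move : ∀ M : List ℕ, (∀ r ∈ M, r < D.nroots) → M.Pairwise (fun a b => prs D C a b = 0) →
    ∃ W, IsWord D W ∧ ∃ j < T.reps.length, (M.map (perm C W)).Perm (T.reps.getD j [])
  | [], _, _ => by
    simp only [chkReps, Bool.and_eq_true, List.contains_iff_mem] at h1
    obtain ⟨j, hj, e⟩ := List.mem_iff_getElem.1 h1.1.2
    exact ⟨[], by simp [IsWord], j, hj, by rw [List.getD_eq_getElem _ _ hj, e]; rfl⟩
  | γ :: M, hM, hp => by
    have hc := h.toRooted.toChecked
    rw [List.pairwise_cons] at hp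
    obtain ⟨W, hW, j, hj, e⟩ := exists_move M (fun r hr => hM r (List.mem_cons_of_mem _ hr)) hp.2
    have hγ := hM γ List.mem_cons_self
    have hγ' := hc.perm_lt hW hγ
    have horth : ∀ β ∈ T.reps.getD j [], β < D.nroots ∧ prs D C β (perm C W γ) = 0 := by
      intro β hβ
      obtain ⟨a, ha, rfl⟩ := List.mem_map.1 (e.mem_iff.2 hβ)
      have ha' := hM a (List.mem_cons_of_mem _ ha)
      exact ⟨hc.perm_lt hW ha', by rw [h.prs_perm hW ha' hγ, h.prs_comm ha' hγ, hp.1 a ha]⟩
    have hb := h2
    simp only [chkRows, allN_iff, Bool.or_eq_true, List.any_eq_true, Bool.and_eq_true, natBeq_iff] at hb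
    rcases hb j hj _ hγ' with ⟨β, hβ, hap⟩ | ⟨s, hs, hs1, hs2⟩
    · exfalso
      obtain ⟨hβn, h0⟩ := horth β hβ
      simp only [chkApart, Bool.or_eq_true, natBeq_iff, Bool.not_eq_true', ← Bool.not_eq_true,
        List.isEmpty_iff] at hap
      rcases hap with ((e' | e') | e') | e'
      · rw [e', h.prs_self hβn] at h0; omega
      · rw [e', h.prs_ng_self hβn] at h0; omega
      · by_cases e'' : perm C W γ = β
        · rw [e'', h.prs_self hβn] at h0; omega
        have := h.cTerms_nil_of_nonneg hβn hγ' e'' (le_of_eq h0.symm)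
        rw [h.cTerms_short' hβn hγ'] at this
        cases he : cE C β (perm C W γ) with
        | nil => exact e' he
        | cons x l => simp [he] at this
      · have hn := Checked.ng_lt (D := D) hγ'
        have h0' : prs D C β (ng D (perm C W γ)) = 0 := by rw [h.prs_ng hγ', h0, neg_zero]
        by_cases e'' : ng D (perm C W γ) = β
        · rw [e'', h.prs_self hβn] at h0'; omega
        have := h.cTerms_nil_of_nonneg hβn hn e'' (le_of_eq h0'.symm)
        rw [h.cTerms_short' hβn hn] at this
        cases he : cE C β (ng D (perm C W γ)) with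
        | nil => exact e' he
        | cons x l => simp [he] at this
    · simp only [chkMove, Bool.and_eq_true, List.all_eq_true, Nat.blt_eq, List.isPerm_iff] at hs2
      refine ⟨s.2.1 ++ W, IsWord.append hs2.1.1 hW, s.2.2, hs2.1.2, List.Perm.trans ?_ hs2.2⟩
      have : ∀ L : List ℕ, L.map (perm C (s.2.1 ++ W)) = (L.map (perm C W)).map (perm C s.2.1) := fun L => by
        rw [List.map_map]; exact List.map_congr_left fun x _ => perm_append _ _ _
      rw [this, List.map_cons]
      exact ((e.cons (perm C W γ))).map _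

include h1 h3 in
theorem exists_class [CharP F 2] : ∀ j < T.reps.length, ∃ k < T.keep,
    ∃ g ∈ D.group F, g * PX (T.reps.getD j []) * g⁻¹ = PX (T.reps.getD k []) := by
  intro j
  induction j using Nat.strong_induction_on with
  | _ j ih =>
    intro hj
    have hb := h3
    simp only [chkReds, allN_iff, Bool.or_eq_true, Nat.blt_eq, Bool.and_eq_true, List.all_eq_true, Nat.ble_eq,
      decide_eq_true_eq] at hb
    rcases hb j hj with hk | ⟨⟨⟨⟨hg, hflat⟩, hnf⟩, hlt⟩, hmove⟩
    · exact ⟨j, hk, 1, one_mem _, by group⟩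
    set d := T.reds.getD (j - T.keep) ([], [], [], 0)
    simp only [chkMove, Bool.and_eq_true, List.all_eq_true, Nat.blt_eq, List.isPerm_iff] at hmove
    obtain ⟨k, hk, g, hgm, eg⟩ := ih _ hlt hmove.1.2
    have hgpos : ∀ r ∈ d.1, r ∈ posSet D := fun r hr => hg r hr
    have hrep := chkFlat_spec (h.rep_flat h1 j)
    have hT' := chkFlat_spec hflat
    have e1 : PX d.1 * PX (T.reps.getD j []) * (PX d.1)⁻¹ = PX d.2.1 := by
      rw [← h.prodX_reverse, ← h.prodX_append, ← h.prodX_append, ← (h.nfW_spec (F := F) _ ?_).2, hnf,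
        (h.nfW_spec (F := F) _ hT'.1).2]
      intro r hr
      simp only [List.mem_append, List.mem_reverse] at hr
      rcases hr with (hr | hr) | hr
      · exact hgpos r hr
      · exact hrep.1 r hr
      · exact hgpos r hr
    have e2 := h.nProd_conj (F := F) (W := d.2.2.1) hmove.1.1 d.2.1 fun r hr => (hT'.1 r hr).2
    rw [h.prodX_perm (h.rep_flat h1 _) hmove.2] at e2
    refine ⟨k, hk, g * nProd h.toRooted.toChecked F d.2.2.1 * PX d.1,
      mul_mem (mul_mem hgm (h.nProd_mem hmove.1.1)) (h.prodX_mem fun r hr => (hgpos r hr).2), ?_⟩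
    rw [← eg, ← e2, ← e1]
    group

include h1 h2 h3 in
/-- Every involution is conjugate to one of the kept representatives. -/
theorem exists_rep [Fintype F] [CharP F 2] {g : GL D.Idx F} (hg : g ∈ D.group F) (hord : orderOf g = 2) :
    ∃ k < T.keep, ∃ z ∈ D.group F, z * g * z⁻¹ = PX (T.reps.getD k []) := by
  obtain ⟨z, hz, M, -, hM, hMp, e⟩ := h.exists_orth_group hg hord
  obtain ⟨W, hW, j, hj, eW⟩ := h.exists_move h1 h2 M (fun r hr => (hM r hr).2) hMp
  have e2 := h.nProd_conj (F := F) hW M fun r hr => (hM r hr).2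
  rw [h.prodX_perm (h.rep_flat h1 j) eW] at e2
  obtain ⟨k, hk, x, hx, e3⟩ := h.exists_class (F := F) h1 h3 j hj
  refine ⟨k, hk, x * nProd h.toRooted.toChecked F W * z, mul_mem (mul_mem hx (h.nProd_mem hW)) hz, ?_⟩
  rw [← e3, ← e2, ← e]
  group

end Tab

end Laced

end Cfsg.Agent.Lib.InvE66
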