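import Cfsg.Agent.Lib.InvE66.Sweep

/-!
An involution of the positive part of a root subsystem is conjugate in the group of the subsystem to one with a
nonzero coefficient at an indecomposable root.
-/

set_option autoImplicit false

namespace Cfsg.Agent.Lib.InvE66

open Cfsg.Lie Cfsg.Agent.Lib.Chev Cfsg.Agent.Lib.ChevCent
open scoped Matrix

/-- The reflection in a root, for roots with pairing in `{-1, 0, 1}`. -/
def srefl (D : ChevalleyDatum) (C : Cert) (α γ : ℕ) : ℕ :=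
  if prs D C γ α = -1 then sumR C γ α else if prs D C γ α = 1 then sumR C γ (ng D α) else γ

variable {D : ChevalleyDatum} {C : Cert} {F : Type*} [Field F]

/-- The element reflecting in a root. -/
noncomputable def wel (hh : Checked D C) (F : Type*) [Field F] (α : ℕ) : GL D.Idx F :=
  xg hh α 1 * xg hh (ng D α) 1 * xg hh α 1

namespace Laced

variable (h : Laced D C)
include h

local notation "X" => xg h.toRooted.toChecked
local notation "hgt" => Cfsg.Agent.Lib.Chev.ht D C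
local notation "W" => wel h.toRooted.toChecked F

theorem wel_mul_self [CharP F 2] (α : ℕ) : W α * W α = 1 := by
  simp only [wel, mul_assoc]
  rw [← mul_assoc (X α (1 : F)) (X α 1), xg_mul_self, one_mul, ← mul_assoc (X (ng D α) (1 : F)) (X (ng D α) 1),
    xg_mul_self, one_mul, xg_mul_self]

theorem wel_inv [CharP F 2] (α : ℕ) : (W α)⁻¹ = W α := inv_eq_of_mul_eq_one_right (h.wel_mul_self α)

theorem srefl_spec {α γ : ℕ} (hα : α < D.nroots) (hγ : γ < D.nroots) (h1 : γ ≠ α) (h2 : γ ≠ ng D α) :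
    srefl D C α γ < D.nroots ∧ ∀ φ : ℕ → ℤ, IsAdd D C φ → φ (srefl D C α γ) = φ γ - prs D C γ α * φ α := by
  rcases h.prs_range hα hγ with e | e | e | e | e
  · exact absurd e h1
  · exact absurd e h2
  all_goals rw [h.prs_comm hα hγ] at e
  · rw [srefl, if_pos e]
    exact ⟨(h.sum_spec hγ hα e).1, fun φ hφ => by rw [(h.sum_spec hγ hα e).2.1 φ hφ, e]; ring⟩
  · rw [srefl, if_neg (by omega), if_neg (by omega)]
    exact ⟨hγ, fun φ _ => by rw [e]; ring⟩
  · rw [srefl, if_neg (by omega), if_pos e]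
    obtain ⟨-, a, -, -, -, b⟩ := h.sub_facts hγ hα e
    exact ⟨a, fun φ hφ => by rw [b φ hφ, e]; ring⟩

theorem wel_conj [CharP F 2] {α γ : ℕ} (hα : α < D.nroots) (hγ : γ < D.nroots) (h1 : γ ≠ α)
    (h2 : γ ≠ ng D α) (t : F) : W α * X γ t * (W α)⁻¹ = X (srefl D C α γ) t := by
  have hn : ng D α < D.nroots := Checked.ng_lt hα
  have hA : ∀ x : F, (X α x)⁻¹ = X α x := xg_inv_two h.toRooted.toChecked α
  have hN : ∀ x : F, (X (ng D α) x)⁻¹ = X (ng D α) x := xg_inv_two h.toRooted.toChecked (ng D α)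
  have e0 : W α * X γ t * (W α)⁻¹ = X α 1 * (X (ng D α) 1 * (X α 1 * X γ t * (X α 1)⁻¹) * (X (ng D α) 1)⁻¹) *
      (X α 1)⁻¹ := by
    simp only [wel, mul_inv_rev, mul_assoc]
  have fix : ∀ {a b : ℕ}, a < D.nroots → b < D.nroots → 0 ≤ prs D C a b → ∀ x y : F,
      X a x * X b y * (X a x)⁻¹ = X b y := fun {a b} ha hb e x y => by
    rw [(h.commute_of_nonneg ha hb e x y).eq, mul_inv_cancel_right]
  have pn : prs D C (ng D α) γ = - prs D C γ α := by rw [h.prs_comm hn hγ, h.prs_ng hα]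
  rcases h.prs_range hα hγ with e | e | e | e | e
  · exact absurd e h1
  · exact absurd e h2
  · have e' : prs D C γ α = -1 := by rw [h.prs_comm hγ hα, e]
    obtain ⟨hs, hφ, -⟩ := h.sum_spec hγ hα e'
    rw [srefl, if_pos e']
    set σ := sumR C γ α
    have p1 : prs D C σ (ng D α) = -1 := by
      rw [h.prs_ng hα, h.prs_comm hs hα, hφ _ (h.isAdd_prs α), e, h.prs_self hα]; ring
    have p2 : prs D C α σ = 1 := by rw [hφ _ (h.isAdd_prs α), e, h.prs_self hα]; ring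
    have hsum : sumR C σ (ng D α) = γ := h.eq_of_cd (h.sum_spec hs hn p1).1 hγ (by
      rw [(h.sum_spec hs hn p1).2.1 _ h.toRooted.toChecked.isAdd_cd,
        hφ _ h.toRooted.toChecked.isAdd_cd, h.toRooted.toChecked.isAdd_cd.map_ng α hα]
      ring)
    have s1 : X α 1 * X γ t * (X α 1)⁻¹ = X σ t * X γ t := by rw [h.conj_sum hγ hα e', one_mul]
    have s2 : X (ng D α) 1 * (X σ t * X γ t) * (X (ng D α) 1)⁻¹ = X γ t * X σ t * X γ t := by
      calc _ = X (ng D α) 1 * X σ t * (X (ng D α) 1)⁻¹ * (X (ng D α) 1 * X γ t * (X (ng D α) 1)⁻¹) := by group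
        _ = _ := by rw [h.conj_sum hs hn p1, hsum, one_mul, fix hn hγ (by omega)]
    have c1 : Commute (X γ t) (X σ t) := h.commute_of_nonneg hγ hs (by
      rw [hφ _ (h.isAdd_prs γ), h.prs_self hγ, e']; norm_num) _ _
    rw [e0, s1, s2, c1.eq, mul_assoc (X σ t), xg_mul_self, mul_one, fix hα hs (by omega)]
  · have e' : prs D C γ α = 0 := by rw [h.prs_comm hγ hα, e]
    rw [srefl, if_neg (by omega), if_neg (by omega), e0, fix hα hγ (by omega), fix hn hγ (by omega),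
      fix hα hγ (by omega)]
  · have e' : prs D C γ α = 1 := by rw [h.prs_comm hγ hα, e]
    obtain ⟨hneg, hs, q1, q2, hsum, hφ⟩ := h.sub_facts hγ hα e'
    rw [srefl, if_neg (by omega), if_pos e']
    set δ := sumR C γ (ng D α)
    have p3 : prs D C δ α = -1 := by rw [h.prs_comm hs hα, q2]
    have c1 : Commute (X δ t) (X γ t) := h.commute_of_nonneg hs hγ (by
      rw [h.prs_comm hs hγ, q1]; norm_num) _ _
    rw [e0, fix hα hγ (by omega), h.conj_sum hγ hn hneg, one_mul]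
    change X α 1 * (X δ t * X γ t) * (X α 1)⁻¹ = _
    calc _ = X α 1 * X δ t * (X α 1)⁻¹ * (X α 1 * X γ t * (X α 1)⁻¹) := by group
      _ = X γ t * X δ t * X γ t := by rw [h.conj_sum hs hα p3, hsum, one_mul, fix hα hγ (by omega)]
      _ = _ := by rw [← c1.eq, mul_assoc, xg_mul_self, mul_one]

variable {Ψ : Set ℕ} (hΨ : IsSub D C Ψ)
include hΨ

theorem exists_indec_sub {γ : ℕ} : ∀ (k : ℕ) (a : ℕ), a ∈ posOf D Ψ → hgt a ≤ k → 1 ≤ prs D C γ a →
    ∃ α, Indec D C Ψ α ∧ 1 ≤ prs D C γ α ∧ hgt α ≤ hgt a := by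
  intro k
  induction k with
  | zero =>
    intro a ha hk _
    have := h.toRooted.toChecked.ht_pos ha.2.2 ha.2.1
    omega
  | succ k ih =>
    intro a ha hk hp
    by_cases hi : Indec D C Ψ a
    · exact ⟨a, hi, hp, le_rfl⟩
    obtain ⟨x, hx, y, hy, e, es⟩ : ∃ x ∈ posOf D Ψ, ∃ y ∈ posOf D Ψ, prs D C x y = -1 ∧ sumR C x y = a := by
      by_contra hcon
      exact hi ⟨ha, fun x hx y hy e es => hcon ⟨x, hx, y, hy, e, es⟩⟩
    have hφ := (h.sum_spec hx.2.2 hy.2.2 e).2.1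
    rw [es] at hφ
    have h1 := h.toRooted.toChecked.ht_pos hx.2.2 hx.2.1
    have h2 := h.toRooted.toChecked.ht_pos hy.2.2 hy.2.1
    have h3 := hφ _ h.toRooted.toChecked.isAdd_ht
    have h4 := hφ _ (h.isAdd_prs γ)
    by_cases hpx : 1 ≤ prs D C γ x
    · obtain ⟨α, a1, a2, a3⟩ := ih x hx (by push_cast at hk; omega) hpx
      exact ⟨α, a1, a2, by omega⟩
    · obtain ⟨α, a1, a2, a3⟩ := ih y hy (by push_cast at hk; omega) (by omega)
      exact ⟨α, a1, a2, by omega⟩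

theorem srefl_rest {α γ : ℕ} (hα : Indec D C Ψ α) (hγ : γ ∈ restSet D Ψ α) :
    srefl D C α γ ∈ restSet D Ψ α := by
  rcases h.prs_range hα.1.2.2 hγ.1.2.2 with e | e | e | e | e
  · exact absurd e hγ.2
  · exact absurd e (Checked.ne_ng_of_pos hα.1.2 hγ.1.2 h.toRooted.toChecked.two_mul_half)
  all_goals have e' := h.prs_comm hγ.1.2.2 hα.1.2.2; rw [e] at e'
  · rw [srefl, if_pos e', h.sum_comm hγ.1.2.2 hα.1.2.2 e']
    exact (h.rest_add hΨ hα hγ e).1
  · rw [srefl, if_neg (by omega), if_neg (by omega)]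
    exact hγ
  · rw [srefl, if_neg (by omega), if_pos e']
    exact (h.sub_rest hΨ hα hγ e).1

theorem closed_highSet (k : ℤ) : ClosedSet D C {γ | γ ∈ posOf D Ψ ∧ k ≤ hgt γ} :=
  h.closed_of_sum (fun _ ha => ha.1.2.2) fun a ha b hb e => by
    refine ⟨⟨hΨ.sum_mem a ha.1.1 b hb.1.1 e, h.sum_pos ha.1.2 hb.1.2 e⟩, ?_⟩
    rw [(h.sum_spec ha.1.2.2 hb.1.2.2 e).2.1 _ h.toRooted.toChecked.isAdd_ht]
    have := h.toRooted.toChecked.ht_pos hb.1.2.2 hb.1.2.1
    have := ha.2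
    omega

/-- A root of the lowest height which is needed. -/
theorem exists_needed {k : ℤ} {u : GL D.Idx F}
    (hu : u ∈ rootGen D F {γ | γ ∈ posOf D Ψ ∧ k ≤ hgt γ})
    (hnot : u ∉ rootGen D F {γ | γ ∈ posOf D Ψ ∧ k + 1 ≤ hgt γ}) :
    ∃ γ ∈ posOf D Ψ, hgt γ = k ∧ u ∉ rootGen D F ({a | a ∈ posOf D Ψ ∧ k ≤ hgt a} \ {γ}) := by
  classical
  by_contra hcon
  have hcl : ∀ E : Set ℕ, (∀ a ∈ E, hgt a = k) → ClosedSet D C ({a | a ∈ posOf D Ψ ∧ k ≤ hgt a} \ E) := by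
    intro E hE
    refine h.closed_of_sum (fun _ ha => ha.1.1.2.2) fun a ha b hb e => ?_
    have hs := (h.sum_spec ha.1.1.2.2 hb.1.1.2.2 e).2.1 _ h.toRooted.toChecked.isAdd_ht
    have := h.toRooted.toChecked.ht_pos hb.1.1.2.2 hb.1.1.2.1
    have := ha.1.2
    exact ⟨⟨⟨hΨ.sum_mem a ha.1.1.1 b hb.1.1.1 e, h.sum_pos ha.1.1.2 hb.1.1.2 e⟩, by omega⟩,
      fun hmem => by have := hE _ hmem; omega⟩
  have key : ∀ E : Finset ℕ, (∀ a ∈ E, a ∈ posOf D Ψ ∧ hgt a = k) →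
      u ∈ rootGen D F ({a | a ∈ posOf D Ψ ∧ k ≤ hgt a} \ (E : Set ℕ)) := by
    intro E
    induction E using Finset.induction with
    | empty => intro _; simpa using hu
    | @insert a E _ ih =>
      intro hE
      have ha := hE a (Finset.mem_insert_self _ _)
      have h1 := ih fun b hb => hE b (Finset.mem_insert_of_mem hb)
      have h2 : u ∈ rootGen D F ({b | b ∈ posOf D Ψ ∧ k ≤ hgt b} \ {a}) := by
        by_contra h2
        exact hcon ⟨a, ha.1, ha.2, h2⟩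
      refine rootGen_mono ?_ (h.toRooted.mem_rootGen_inter (fun b hb => hb.1.1.2) (fun b hb => hb.1.1.2)
        (hcl _ fun b hb => (hE b (Finset.mem_insert_of_mem hb)).2) (hcl {a} fun b hb => hb ▸ ha.2) h1 h2)
      rintro b ⟨⟨hb, h3⟩, -, h4⟩
      exact ⟨hb, by simpa using And.intro h4 h3⟩
  refine hnot (rootGen_mono ?_ (key ((Finset.range D.nroots).filter fun a => a ∈ posOf D Ψ ∧ hgt a = k)
    fun a ha => (Finset.mem_filter.1 ha).2))
  rintro a ⟨⟨ha, hle⟩, hne⟩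
  refine ⟨ha, ?_⟩
  have h5 : hgt a ≠ k := fun e => hne (Finset.mem_filter.2 ⟨Finset.mem_range.2 ha.2.2, ha, e⟩)
  omega

/-- Some conjugate needs an indecomposable root. -/
theorem descend [CharP F 2] : ∀ (k : ℕ) (u : GL D.Idx F), u ∈ rootGen D F (posOf D Ψ) →
    u ∉ rootGen D F {γ | γ ∈ posOf D Ψ ∧ (k : ℤ) + 1 ≤ hgt γ} →
    ∃ g ∈ rootGen D F Ψ, ∃ r, Indec D C Ψ r ∧ g * u * g⁻¹ ∈ rootGen D F (posOf D Ψ) ∧
      g * u * g⁻¹ ∉ rootGen D F (restSet D Ψ r) := by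
  intro k
  induction k with
  | zero =>
    intro u hu hnot
    refine absurd (rootGen_mono ?_ hu) hnot
    intro a ha
    have := h.toRooted.toChecked.ht_pos ha.2.2 ha.2.1
    exact ⟨ha, by push_cast; omega⟩
  | succ k ih =>
    intro u hu hnot
    by_cases hlow : u ∈ rootGen D F {γ | γ ∈ posOf D Ψ ∧ (k : ℤ) + 1 ≤ hgt γ}
    swap
    · exact ih u hu hlow
    have hc := h.toRooted.toChecked
    set S : Set ℕ := {γ | γ ∈ posOf D Ψ ∧ (k : ℤ) + 1 ≤ hgt γ} with hS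
    have hnot' : u ∉ rootGen D F {γ | γ ∈ posOf D Ψ ∧ (k : ℤ) + 1 + 1 ≤ hgt γ} := by
      simpa [add_assoc] using hnot
    obtain ⟨γ, hγ, hγk, hneed⟩ := h.exists_needed hΨ hlow hnot'
    by_cases hi : Indec D C Ψ γ
    · refine ⟨1, one_mem _, γ, hi, by simpa using hu, ?_⟩
      simp only [one_mul, inv_one, mul_one]
      intro hmem
      have hclr : ClosedSet D C (restSet D Ψ γ) := h.closed_of_sum (fun _ ha => ha.1.2.2) fun a ha b hb e =>
        (h.rest_sum hΨ hi ha hb e).1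
      refine hneed (rootGen_mono ?_ (h.toRooted.mem_rootGen_inter (fun a ha => ha.1.2) (fun a ha => ha.1.2)
        (h.closed_highSet hΨ _) hclr hlow hmem))
      rintro a ⟨ha, -, hb⟩
      exact ⟨ha, hb⟩
    obtain ⟨x, hx, y, hy, e, es⟩ : ∃ x ∈ posOf D Ψ, ∃ y ∈ posOf D Ψ, prs D C x y = -1 ∧ sumR C x y = γ := by
      by_contra hcon
      exact hi ⟨hγ, fun x hx y hy e es => hcon ⟨x, hx, y, hy, e, es⟩⟩
    have hφ := (h.sum_spec hx.2.2 hy.2.2 e).2.1
    rw [es] at hφ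
    have hxp : prs D C γ x = 1 := by
      rw [h.prs_comm hγ.2.2 hx.2.2, hφ _ (h.isAdd_prs x), e, h.prs_self hx.2.2]; ring
    have hhy := hc.ht_pos hy.2.2 hy.2.1
    have hγht := hφ _ hc.isAdd_ht
    obtain ⟨α, hα, hpα, hle⟩ := h.exists_indec_sub hΨ (γ := γ) (hgt x).toNat x hx
      (by rw [Int.toNat_of_nonneg (le_of_lt (hc.ht_pos hx.2.2 hx.2.1))]) hxp.ge
    have hαlt : hgt α < (k : ℤ) + 1 := by omega
    have hγα : γ ∈ restSet D Ψ α := ⟨hγ, fun e' => by rw [Set.mem_singleton_iff] at e'; subst e'; omega⟩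
    have hpα' : prs D C γ α = 1 := by
      rcases h.prs_range hγ.2.2 hα.1.2.2 with e' | e' | e' | e' | e'
      · exact absurd e'.symm hγα.2
      · exact absurd e' (Checked.ne_ng_of_pos hγ.2 hα.1.2 hc.two_mul_half)
      all_goals omega
    have hsub : ∀ a ∈ S, a ∈ restSet D Ψ α := fun a ha =>
      ⟨ha.1, fun e' => by rw [Set.mem_singleton_iff] at e'; subst e'; exact absurd ha.2 (by omega)⟩
    have hne : ∀ a ∈ restSet D Ψ α, a ≠ α ∧ a ≠ ng D α := fun a ha =>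
      ⟨ha.2, Checked.ne_ng_of_pos hα.1.2 ha.1.2 hc.two_mul_half⟩
    have himg : ∀ a ∈ restSet D Ψ α, srefl D C α a ∈ restSet D Ψ α ∧
        ∀ φ : ℕ → ℤ, IsAdd D C φ → φ (srefl D C α a) = φ a - prs D C a α * φ α := fun a ha =>
      ⟨h.srefl_rest hΨ hα ha, (h.srefl_spec hα.1.2.2 ha.1.2.2 (hne a ha).1 (hne a ha).2).2⟩
    set u' := W α * u * (W α)⁻¹ with hu'
    set S' : Set ℕ := srefl D C α '' S with hS'
    have hgen : ∀ (A : Set ℕ), A ⊆ restSet D Ψ α → ∀ v ∈ rootGen D F A,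
        W α * v * (W α)⁻¹ ∈ rootGen D F (srefl D C α '' A) := by
      intro A hA v hv
      induction hv using Subgroup.closure_induction with
      | mem g hg =>
        obtain ⟨a, s, ha, e'⟩ := hg
        rw [show g = X a s from Units.ext (by rw [e', coe_xg]),
          h.wel_conj hα.1.2.2 (hA ha).1.2.2 (hne a (hA ha)).1 (hne a (hA ha)).2]
        exact h.xg_mem (Set.mem_image_of_mem _ ha) s
      | one => simp
      | mul v w _ _ hv hw => have := mul_mem hv hw; simpa [mul_assoc] using this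
      | inv v _ hv => have := inv_mem hv; simpa [mul_assoc] using this
    have hu'S : u' ∈ rootGen D F S' := hgen S hsub u hlow
    have hu'P : u' ∈ rootGen D F (posOf D Ψ) := rootGen_mono (by
      rintro _ ⟨a, ha, rfl⟩
      exact (himg a (hsub a ha)).1.1) hu'S
    have hgΨ : W α ∈ rootGen D F Ψ :=
      mul_mem (mul_mem (h.xg_mem hα.1.1 1) (h.xg_mem (hΨ.ng_mem α hα.1.1) 1)) (h.xg_mem hα.1.1 1)
    have hnot'' : u' ∉ rootGen D F S := by
      intro hu''
      have hclS' : ClosedSet D C S' := h.closed_of_sum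
        (by rintro _ ⟨a, ha, rfl⟩; exact (himg a (hsub a ha)).1.1.2.2) (by
        rintro _ ⟨a, ha, rfl⟩ _ ⟨b, hb, rfl⟩ e'
        have ha' := hsub a ha
        have hb' := hsub b hb
        obtain ⟨ia, ja⟩ := himg a ha'
        obtain ⟨ib, jb⟩ := himg b hb'
        have p1 : prs D C a b = -1 := by
          rw [jb _ (h.isAdd_prs _), h.prs_comm ia.1.2.2 hb'.1.2.2, ja _ (h.isAdd_prs b),
            h.prs_comm ia.1.2.2 hα.1.2.2, ja _ (h.isAdd_prs α), h.prs_self hα.1.2.2,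
            h.prs_comm hα.1.2.2 ha'.1.2.2, h.prs_comm hb'.1.2.2 ha'.1.2.2] at e'
          linarith [e']
        obtain ⟨s1, s2, -⟩ := h.rest_sum hΨ hα ha' hb' p1
        have hs : sumR C a b ∈ S := by
          refine ⟨⟨hΨ.sum_mem a ha.1.1 b hb.1.1 p1, h.sum_pos ha.1.2 hb.1.2 p1⟩, ?_⟩
          rw [(h.sum_spec ha.1.2.2 hb.1.2.2 p1).2.1 _ hc.isAdd_ht]
          have := hc.ht_pos hb.1.2.2 hb.1.2.1
          have := ha.2
          omega
        refine ⟨sumR C a b, hs, h.eq_of_cd (himg _ (hsub _ hs)).1.1.2.2 (h.sum_spec ia.1.2.2 ib.1.2.2 e').1 ?_⟩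
        rw [(himg _ (hsub _ hs)).2 _ hc.isAdd_cd, (h.sum_spec ia.1.2.2 ib.1.2.2 e').2.1 _ hc.isAdd_cd,
          ja _ hc.isAdd_cd, jb _ hc.isAdd_cd, (h.sum_spec ha.1.2.2 hb.1.2.2 p1).2.1 _ hc.isAdd_cd,
          h.prs_comm (h.sum_spec ha.1.2.2 hb.1.2.2 p1).1 hα.1.2.2,
          (h.sum_spec ha.1.2.2 hb.1.2.2 p1).2.1 _ (h.isAdd_prs α), h.prs_comm hα.1.2.2 ha'.1.2.2,
          h.prs_comm hα.1.2.2 hb'.1.2.2]
        ring)
      have hmem := h.toRooted.mem_rootGen_inter (S := S') (T := S)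
        (by rintro _ ⟨a, ha, rfl⟩; exact (himg a (hsub a ha)).1.1.2) (fun a ha => ha.1.2) hclS'
        (h.closed_highSet hΨ _) hu'S hu''
      have hback := hgen (S' ∩ S) (fun a ha => hsub a ha.2) u' hmem
      rw [hu', show W α * (W α * u * (W α)⁻¹) * (W α)⁻¹ = W α * W α * u * (W α * W α)⁻¹ by group,
        h.wel_mul_self, one_mul, inv_one, mul_one] at hback
      refine hneed (rootGen_mono ?_ hback)
      rintro _ ⟨_, ⟨⟨a, ha, rfl⟩, hb⟩, rfl⟩
      obtain ⟨ia, ja⟩ := himg a (hsub a ha)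
      obtain ⟨iia, jja⟩ := himg _ ia
      have hinv : srefl D C α (srefl D C α a) = a := h.eq_of_cd iia.1.2.2 ha.1.2.2 (by
        rw [jja _ hc.isAdd_cd, ja _ hc.isAdd_cd, h.prs_comm ia.1.2.2 hα.1.2.2, ja _ (h.isAdd_prs α),
          h.prs_self hα.1.2.2, h.prs_comm hα.1.2.2 ha.1.2.2]
        ring)
      rw [hinv]
      refine ⟨ha, fun e' => ?_⟩
      rw [Set.mem_singleton_iff] at e'
      subst e'
      have h6 := hb.2
      rw [ja _ hc.isAdd_ht, hpα'] at h6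
      have := hc.ht_pos hα.1.2.2 hα.1.2.1
      omega
    obtain ⟨g, hg, r, hr, h1, h2⟩ := ih u' hu'P hnot''
    refine ⟨g * W α, mul_mem hg hgΨ, r, hr, ?_, ?_⟩
    · simpa [hu', mul_assoc] using h1
    · simpa [hu', mul_assoc] using h2

end Laced

end Cfsg.Agent.Lib.InvE66
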