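import Cfsg.Agent.Lib.InvE66.Classes

/-!
Representatives of the sets of orthogonal roots of type E6, with the words moving between them.
-/

set_option autoImplicit false
set_option maxRecDepth 100000

namespace Cfsg.Agent.Lib.InvE66.E6

open Cfsg.Lie Cfsg.Agent.Lib.Chev Cfsg.Agent.Lib.InvE66

def row0 : List WStep :=
  [(0, [1, 3, 2, 0, 4, 3, 1, 2, 3, 4, 5, 4, 3, 2, 1, 3, 4, 0, 2, 3, 1], 1),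
   (1, [1, 3, 2, 0, 4, 3, 1, 2, 3, 4, 5, 4, 3, 2, 1, 3, 4, 0, 2, 3, 1, 1], 1),
   (2, [1, 3, 2, 0, 4, 3, 1, 2, 3, 4, 5, 4, 3, 2, 1, 3, 4, 0, 2, 3, 1, 1, 3], 1),
   (3, [1, 3, 2, 0, 4, 3, 1, 2, 3, 4, 5, 4, 3, 2, 1, 3, 4, 0, 2, 3, 1, 1, 3, 4], 1),
   (4, [1, 3, 2, 0, 4, 3, 1, 2, 3, 4, 5, 4, 3, 2, 1, 3, 4, 0, 2, 3, 1, 1, 3, 4, 5], 1),
   (5, [1, 3, 2, 0, 4, 3, 1, 2, 3, 4, 5, 4, 3, 2, 1, 3, 4, 0, 2, 3, 1, 1, 3, 2], 1),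
   (6, [1, 3, 2, 0, 4, 3, 1, 2, 3, 4, 5, 4, 3, 2, 1, 3, 4, 0, 2, 3, 1, 1, 3, 2, 4], 1),
   (7, [1, 3, 2, 0, 4, 3, 1, 2, 3, 4, 5, 4, 3, 2, 1, 3, 4, 0, 2, 3, 1, 1, 3, 2, 4, 5], 1),
   (8, [1, 3, 2, 0, 4, 3, 1, 2, 3, 4, 5, 4, 3, 2, 1, 3, 4, 0, 2, 3, 1, 1, 3, 2, 4, 3], 1),
   (9, [1, 3, 2, 0, 4, 3, 1, 2, 3, 4, 5, 4, 3, 2, 1, 3, 4, 0, 2, 3, 1, 1, 3, 2, 4, 3, 5], 1),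
   (10, [1, 3, 2, 0, 4, 3, 1, 2, 3, 4, 5, 4, 3, 2, 1, 3, 4, 0, 2, 3, 1, 1, 3, 2, 4, 3, 5, 4], 1),
   (11, [1, 3, 2, 0, 4, 3, 1, 2, 3, 4, 5, 4, 3, 2, 1, 3, 4, 0, 2, 3, 1, 1, 3, 2, 4, 3, 1], 1),
   (12, [1, 3, 2, 0, 4, 3, 1, 2, 3, 4, 5, 4, 3, 2, 1, 3, 4, 0, 2, 3, 1, 1, 3, 2, 4, 3, 1, 5], 1),
   (13, [1, 3, 2, 0, 4, 3, 1, 2, 3, 4, 5, 4, 3, 2, 1, 3, 4, 0, 2, 3, 1, 1, 3, 2, 4, 3, 1, 5, 4], 1),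
   (14, [1, 3, 2, 0, 4, 3, 1, 2, 3, 4, 5, 4, 3, 2, 1, 3, 4, 0, 2, 3, 1, 1, 3, 2, 4, 3, 1, 5, 4, 3], 1),
   (15, [1, 3, 2, 0, 4, 3, 1, 2, 3, 4, 5, 4, 3, 2, 1, 3, 4, 0, 2, 3, 1, 1, 3, 2, 4, 3, 1, 5, 4, 3, 2], 1),
   (16, [1, 3, 2, 0, 4, 3, 1, 2, 3, 4, 5, 4, 3, 2, 1, 3, 4, 0, 2, 3, 1, 1, 3, 2, 0], 1),
   (17, [1, 3, 2, 0, 4, 3, 1, 2, 3, 4, 5, 4, 3, 2, 1, 3, 4, 0, 2, 3, 1, 1, 3, 2, 0, 4], 1),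
   (18, [1, 3, 2, 0, 4, 3, 1, 2, 3, 4, 5, 4, 3, 2, 1, 3, 4, 0, 2, 3, 1, 1, 3, 2, 0, 4, 5], 1),
   (19, [1, 3, 2, 0, 4, 3, 1, 2, 3, 4, 5, 4, 3, 2, 1, 3, 4, 0, 2, 3, 1, 1, 3, 2, 0, 4, 3], 1),
   (20, [1, 3, 2, 0, 4, 3, 1, 2, 3, 4, 5, 4, 3, 2, 1, 3, 4, 0, 2, 3, 1, 1, 3, 2, 0, 4, 3, 5], 1),
   (21, [1, 3, 2, 0, 4, 3, 1, 2, 3, 4, 5, 4, 3, 2, 1, 3, 4, 0, 2, 3, 1, 1, 3, 2, 0, 4, 3, 5, 4], 1),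
   (22, [1, 3, 2, 0, 4, 3, 1, 2, 3, 4, 5, 4, 3, 2, 1, 3, 4, 0, 2, 3, 1, 1, 3, 2, 0, 4, 3, 2], 1),
   (23, [1, 3, 2, 0, 4, 3, 1, 2, 3, 4, 5, 4, 3, 2, 1, 3, 4, 0, 2, 3, 1, 1, 3, 2, 0, 4, 3, 2, 5], 1),
   (24, [1, 3, 2, 0, 4, 3, 1, 2, 3, 4, 5, 4, 3, 2, 1, 3, 4, 0, 2, 3, 1, 1, 3, 2, 0, 4, 3, 2, 5, 4], 1),
   (25, [1, 3, 2, 0, 4, 3, 1, 2, 3, 4, 5, 4, 3, 2, 1, 3, 4, 0, 2, 3, 1, 1, 3, 2, 0, 4, 3, 2, 5, 4, 3], 1),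
   (26, [1, 3, 2, 0, 4, 3, 1, 2, 3, 4, 5, 4, 3, 2, 1, 3, 4, 0, 2, 3, 1, 1, 3, 2, 0, 4, 3, 1], 1),
   (27, [1, 3, 2, 0, 4, 3, 1, 2, 3, 4, 5, 4, 3, 2, 1, 3, 4, 0, 2, 3, 1, 1, 3, 2, 0, 4, 3, 1, 5], 1),
   (28, [1, 3, 2, 0, 4, 3, 1, 2, 3, 4, 5, 4, 3, 2, 1, 3, 4, 0, 2, 3, 1, 1, 3, 2, 0, 4, 3, 1, 5, 4], 1),
   (29, [1, 3, 2, 0, 4, 3, 1, 2, 3, 4, 5, 4, 3, 2, 1, 3, 4, 0, 2, 3, 1, 1, 3, 2, 0, 4, 3, 1, 5, 4, 3], 1),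
   (30, [1, 3, 2, 0, 4, 3, 1, 2, 3, 4, 5, 4, 3, 2, 1, 3, 4, 0, 2, 3, 1, 1, 3, 2, 0, 4, 3, 1, 2], 1),
   (31, [1, 3, 2, 0, 4, 3, 1, 2, 3, 4, 5, 4, 3, 2, 1, 3, 4, 0, 2, 3, 1, 1, 3, 2, 0, 4, 3, 1, 2, 5], 1),
   (32, [1, 3, 2, 0, 4, 3, 1, 2, 3, 4, 5, 4, 3, 2, 1, 3, 4, 0, 2, 3, 1, 1, 3, 2, 0, 4, 3, 1, 2, 5, 4], 1),
   (33, [1, 3, 2, 0, 4, 3, 1, 2, 3, 4, 5, 4, 3, 2, 1, 3, 4, 0, 2, 3, 1, 1, 3, 2, 0, 4, 3, 1, 2, 3], 1),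
   (34, [1, 3, 2, 0, 4, 3, 1, 2, 3, 4, 5, 4, 3, 2, 1, 3, 4, 0, 2, 3, 1, 1, 3, 2, 0, 4, 3, 1, 2, 3, 5], 1),
   (35, [1, 3, 2, 0, 4, 3, 1, 2, 3, 4, 5, 4, 3, 2, 1, 3, 4, 0, 2, 3, 1, 1, 3, 2, 0, 4, 3, 1, 2, 3, 4], 1),
   (36, [1, 3, 2, 0, 4, 3, 1, 2, 3, 4], 1),
   (37, [1, 3, 2, 0, 4, 3, 1, 2, 3, 5], 1),
   (38, [1, 3, 2, 0, 4, 3, 1, 2, 3], 1),
   (39, [1, 3, 2, 0, 4, 3, 1, 2, 5, 4], 1),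
   (40, [1, 3, 2, 0, 4, 3, 1, 2, 5], 1),
   (41, [1, 3, 2, 0, 4, 3, 1, 2], 1),
   (42, [1, 3, 2, 0, 4, 3, 1, 5, 4, 3], 1),
   (43, [1, 3, 2, 0, 4, 3, 1, 5, 4], 1),
   (44, [1, 3, 2, 0, 4, 3, 1, 5], 1),
   (45, [1, 3, 2, 0, 4, 3, 1], 1),
   (46, [1, 3, 2, 0, 4, 3, 2, 5, 4, 3], 1),
   (47, [1, 3, 2, 0, 4, 3, 2, 5, 4], 1),
   (48, [1, 3, 2, 0, 4, 3, 2, 5], 1),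
   (49, [1, 3, 2, 0, 4, 3, 2], 1),
   (50, [1, 3, 2, 0, 4, 3, 5, 4], 1),
   (51, [1, 3, 2, 0, 4, 3, 5], 1),
   (52, [1, 3, 2, 0, 4, 3], 1),
   (53, [1, 3, 2, 0, 4, 5], 1),
   (54, [1, 3, 2, 0, 4], 1),
   (55, [1, 3, 2, 0], 1),
   (56, [1, 3, 2, 4, 3, 1, 5, 4, 3, 2], 1),
   (57, [1, 3, 2, 4, 3, 1, 5, 4, 3], 1),
   (58, [1, 3, 2, 4, 3, 1, 5, 4], 1),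
   (59, [1, 3, 2, 4, 3, 1, 5], 1),
   (60, [1, 3, 2, 4, 3, 1], 1),
   (61, [1, 3, 2, 4, 3, 5, 4], 1),
   (62, [1, 3, 2, 4, 3, 5], 1),
   (63, [1, 3, 2, 4, 3], 1),
   (64, [1, 3, 2, 4, 5], 1),
   (65, [1, 3, 2, 4], 1),
   (66, [1, 3, 2], 1),
   (67, [1, 3, 4, 5], 1),
   (68, [1, 3, 4], 1),
   (69, [1, 3], 1),
   (70, [1], 1),
   (71, [], 1)]

def row1 : List WStep :=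
  [(11, [2, 0, 3, 1, 2, 3, 4, 5, 4, 3, 2, 1, 3, 0, 2, 2, 3, 1], 2),
   (12, [2, 0, 3, 1, 2, 3, 4, 5, 4, 3, 2, 1, 3, 0, 2, 2, 3, 1, 5], 2),
   (13, [2, 0, 3, 1, 2, 3, 4, 5, 4, 3, 2, 1, 3, 0, 2, 2, 3, 1, 5, 4], 2),
   (14, [2, 0, 3, 1, 2, 3, 4, 5, 4, 3, 2, 1, 3, 0, 2, 2, 3, 1, 5, 4, 3], 2),
   (15, [2, 0, 3, 1, 2, 3, 4, 5, 4, 3, 2, 1, 3, 0, 2, 2, 3, 1, 5, 4, 3, 2], 2),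
   (26, [0, 4, 3, 1, 2, 3, 4, 5, 4, 3, 2, 1, 3, 4, 0, 0, 4, 3, 1], 2),
   (27, [0, 4, 3, 1, 2, 3, 4, 5, 4, 3, 2, 1, 3, 4, 0, 0, 4, 3, 1, 5], 2),
   (28, [0, 4, 3, 1, 2, 3, 4, 5, 4, 3, 2, 1, 3, 4, 0, 0, 4, 3, 1, 5, 4], 2),
   (29, [0, 4, 3, 1, 2, 3, 4, 5, 4, 3, 2, 1, 3, 4, 0, 0, 4, 3, 1, 5, 4, 3], 2),
   (30, [0, 4, 3, 1, 2, 3, 4, 5, 4, 3, 2, 1, 3, 4, 0, 0, 4, 3, 1, 2], 2),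
   (31, [0, 4, 3, 1, 2, 3, 4, 5, 4, 3, 2, 1, 3, 4, 0, 0, 4, 3, 1, 2, 5], 2),
   (32, [0, 4, 3, 1, 2, 3, 4, 5, 4, 3, 2, 1, 3, 4, 0, 0, 4, 3, 1, 2, 5, 4], 2),
   (33, [0, 4, 3, 1, 2, 3, 4, 5, 4, 3, 2, 1, 3, 4, 0, 0, 4, 3, 1, 2, 3], 2),
   (34, [0, 4, 3, 1, 2, 3, 4, 5, 4, 3, 2, 1, 3, 4, 0, 0, 4, 3, 1, 2, 3, 5], 2),
   (35, [0, 4, 3, 1, 2, 3, 4, 5, 4, 3, 2, 1, 3, 4, 0, 0, 4, 3, 1, 2, 3, 4], 2),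
   (36, [0, 4, 3, 1, 2, 3, 4], 2),
   (37, [0, 4, 3, 1, 2, 3, 5], 2),
   (38, [0, 4, 3, 1, 2, 3], 2),
   (39, [0, 4, 3, 1, 2, 5, 4], 2),
   (40, [0, 4, 3, 1, 2, 5], 2),
   (41, [0, 4, 3, 1, 2], 2),
   (42, [0, 4, 3, 1, 5, 4, 3], 2),
   (43, [0, 4, 3, 1, 5, 4], 2),
   (44, [0, 4, 3, 1, 5], 2),
   (45, [0, 4, 3, 1], 2),
   (56, [2, 3, 1, 5, 4, 3, 2], 2),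
   (57, [2, 3, 1, 5, 4, 3], 2),
   (58, [2, 3, 1, 5, 4], 2),
   (59, [2, 3, 1, 5], 2),
   (60, [2, 3, 1], 2)]

def row2 : List WStep :=
  [(18, [0, 3, 1, 2, 3, 4, 5, 4, 3, 2, 1, 3, 0, 0, 5], 3),
   (20, [0, 3, 1, 2, 3, 4, 5, 4, 3, 2, 1, 3, 0, 0, 3, 5], 3),
   (24, [0, 3, 1, 2, 3, 4, 5, 4, 3, 2, 1, 3, 0, 0, 3, 2, 5, 4], 3),
   (25, [0, 3, 1, 2, 3, 4, 5, 4, 3, 2, 1, 3, 0, 0, 3, 2, 5, 4, 3], 3),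
   (27, [0, 3, 1, 2, 3, 4, 5, 4, 3, 2, 1, 3, 0, 0, 3, 1, 5], 3),
   (32, [0, 3, 1, 2, 3, 4, 5, 4, 3, 2, 1, 3, 0, 0, 3, 1, 2, 5, 4], 3),
   (39, [0, 3, 1, 2, 5, 4], 3),
   (44, [0, 3, 1, 5], 3),
   (46, [0, 3, 2, 5, 4, 3], 3),
   (47, [0, 3, 2, 5, 4], 3),
   (51, [0, 3, 5], 3),
   (53, [0, 5], 3)]

def row3 : List WStep :=
  [(25, [1, 3, 1, 3, 2, 0], 4),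
   (46, [3, 2, 0], 4)]

def row4 : List WStep :=
  []

def reds : List WRed :=
  [([59, 47, 45, 39], [47, 52, 62], [0, 3, 2, 0, 4, 3, 2, 5, 4, 3, 2], 3)]

def tab : OrbitTab where
  reps := [[], [71], [68, 66], [55, 65, 67], [47, 52, 62, 70]]
  rows := [row0, row1, row2, row3, row4]
  reds := reds
  keep := 4

theorem reps_ok : chkReps chevE6 Chev.E6.cert tab = true := by decide +kernel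

theorem rows_ok : chkRows chevE6 Chev.E6.cert tab = true := by decide +kernel

theorem reds_ok : chkReds chevE6 Chev.E6.cert tab = true := by decide +kernel

end Cfsg.Agent.Lib.InvE66.E6
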