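import Cfsg.Agent.Lib.InvE66.Classes

/-!
Representatives of the sets of orthogonal roots of type E7, with the words moving between them.
-/

set_option autoImplicit false
set_option maxRecDepth 100000

namespace Cfsg.Agent.Lib.InvE66.E7

open Cfsg.Lie Cfsg.Agent.Lib.Chev Cfsg.Agent.Lib.InvE66

def row0 : List WStep :=
  [(0, [6, 5, 4, 3, 1, 2, 0, 3, 2, 4, 3, 1, 5, 4, 3, 2, 0], 1),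
   (1, [6, 5, 4, 3, 1, 2, 0, 3, 2, 4, 3, 1, 5, 4, 3, 2], 1),
   (2, [6, 5, 4, 3, 1, 2, 0, 3, 2, 4, 3, 1, 5, 4, 3], 1),
   (3, [6, 5, 4, 3, 1, 2, 0, 3, 2, 4, 3, 1, 5, 4], 1),
   (4, [6, 5, 4, 3, 1, 2, 0, 3, 2, 4, 3, 1, 5], 1),
   (5, [6, 5, 4, 3, 1, 2, 0, 3, 2, 4, 3, 1], 1),
   (6, [6, 5, 4, 3, 1, 2, 0, 3, 2, 4, 3, 1, 6], 1),
   (7, [6, 5, 4, 3, 1, 2, 0, 3, 2, 4, 3, 5, 4], 1),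
   (8, [6, 5, 4, 3, 1, 2, 0, 3, 2, 4, 3, 5], 1),
   (9, [6, 5, 4, 3, 1, 2, 0, 3, 2, 4, 3], 1),
   (10, [6, 5, 4, 3, 1, 2, 0, 3, 2, 4, 3, 6], 1),
   (11, [6, 5, 4, 3, 1, 2, 0, 3, 2, 4, 5], 1),
   (12, [6, 5, 4, 3, 1, 2, 0, 3, 2, 4], 1),
   (13, [6, 5, 4, 3, 1, 2, 0, 3, 2, 4, 6], 1),
   (14, [6, 5, 4, 3, 1, 2, 0, 3, 2], 1),
   (15, [6, 5, 4, 3, 1, 2, 0, 3, 2, 6], 1),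
   (16, [6, 5, 4, 3, 1, 2, 0, 3, 2, 6, 5], 1),
   (17, [6, 5, 4, 3, 1, 2, 0, 3, 4, 5], 1),
   (18, [6, 5, 4, 3, 1, 2, 0, 3, 4], 1),
   (19, [6, 5, 4, 3, 1, 2, 0, 3, 4, 6], 1),
   (20, [6, 5, 4, 3, 1, 2, 0, 3], 1),
   (21, [6, 5, 4, 3, 1, 2, 0, 3, 6], 1),
   (22, [6, 5, 4, 3, 1, 2, 0, 3, 6, 5], 1),
   (23, [6, 5, 4, 3, 1, 2, 0], 1),
   (24, [6, 5, 4, 3, 1, 2, 0, 6], 1),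
   (25, [6, 5, 4, 3, 1, 2, 0, 6, 5], 1),
   (26, [6, 5, 4, 3, 1, 2, 0, 6, 5, 4], 1),
   (27, [6, 5, 4, 3, 2, 0], 1),
   (28, [6, 5, 4, 3, 2, 0, 6], 1),
   (29, [6, 5, 4, 3, 2, 0, 6, 5], 1),
   (30, [6, 5, 4, 3, 2, 0, 6, 5, 4], 1),
   (31, [6, 5, 4, 3, 2, 0, 6, 5, 4, 3], 1),
   (32, [6, 5, 4, 3, 2, 0, 6, 5, 4, 3, 2], 1),
   (33, [6, 5, 4, 3, 1, 2, 3, 4, 5], 1),
   (34, [6, 5, 4, 3, 1, 2, 3, 4], 1),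
   (35, [6, 5, 4, 3, 1, 2, 3, 4, 6], 1),
   (36, [6, 5, 4, 3, 1, 2, 3], 1),
   (37, [6, 5, 4, 3, 1, 2, 3, 6], 1),
   (38, [6, 5, 4, 3, 1, 2, 3, 6, 5], 1),
   (39, [6, 5, 4, 3, 1, 2], 1),
   (40, [6, 5, 4, 3, 1, 2, 6], 1),
   (41, [6, 5, 4, 3, 1, 2, 6, 5], 1),
   (42, [6, 5, 4, 3, 1, 2, 6, 5, 4], 1),
   (43, [6, 5, 4, 3, 1], 1),
   (44, [6, 5, 4, 3, 1, 6], 1),
   (45, [6, 5, 4, 3, 1, 6, 5], 1),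
   (46, [6, 5, 4, 3, 1, 6, 5, 4], 1),
   (47, [6, 5, 4, 3, 1, 6, 5, 4, 3], 1),
   (48, [6, 5, 4, 3, 2], 1),
   (49, [6, 5, 4, 3, 2, 6], 1),
   (50, [6, 5, 4, 3, 2, 6, 5], 1),
   (51, [6, 5, 4, 3, 2, 6, 5, 4], 1),
   (52, [6, 5, 4, 3, 2, 6, 5, 4, 3], 1),
   (53, [6, 5, 4, 3], 1),
   (54, [6, 5, 4, 3, 6], 1),
   (55, [6, 5, 4, 3, 6, 5], 1),
   (56, [6, 5, 4, 3, 6, 5, 4], 1),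
   (57, [6, 5, 4], 1),
   (58, [6, 5, 4, 6], 1),
   (59, [6, 5, 4, 6, 5], 1),
   (60, [6, 5], 1),
   (61, [6, 5, 6], 1),
   (62, [6], 1),
   (63, [], 1),
   (64, [5, 6], 1),
   (65, [5], 1),
   (66, [5, 4, 6, 5], 1),
   (67, [5, 4, 6], 1),
   (68, [5, 4], 1),
   (69, [5, 4, 3, 6, 5, 4], 1),
   (70, [5, 4, 3, 6, 5], 1),
   (71, [5, 4, 3, 6], 1),
   (72, [5, 4, 3], 1),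
   (73, [5, 4, 3, 2, 6, 5, 4, 3], 1),
   (74, [5, 4, 3, 2, 6, 5, 4], 1),
   (75, [5, 4, 3, 2, 6, 5], 1),
   (76, [5, 4, 3, 2, 6], 1),
   (77, [5, 4, 3, 2], 1),
   (78, [5, 4, 3, 1, 6, 5, 4, 3], 1),
   (79, [5, 4, 3, 1, 6, 5, 4], 1),
   (80, [5, 4, 3, 1, 6, 5], 1),
   (81, [5, 4, 3, 1, 6], 1),
   (82, [5, 4, 3, 1], 1),
   (83, [5, 4, 3, 1, 2, 6, 5, 4], 1),
   (84, [5, 4, 3, 1, 2, 6, 5], 1),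
   (85, [5, 4, 3, 1, 2, 6], 1),
   (86, [5, 4, 3, 1, 2], 1),
   (87, [5, 4, 3, 1, 2, 3, 6, 5], 1),
   (88, [5, 4, 3, 1, 2, 3, 6], 1),
   (89, [5, 4, 3, 1, 2, 3], 1),
   (90, [5, 4, 3, 1, 2, 3, 4, 6], 1),
   (91, [5, 4, 3, 1, 2, 3, 4], 1),
   (92, [5, 4, 3, 1, 2, 3, 4, 5], 1),
   (93, [5, 4, 3, 2, 0, 6, 5, 4, 3, 2], 1),
   (94, [5, 4, 3, 2, 0, 6, 5, 4, 3], 1),
   (95, [5, 4, 3, 2, 0, 6, 5, 4], 1),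
   (96, [5, 4, 3, 2, 0, 6, 5], 1),
   (97, [5, 4, 3, 2, 0, 6], 1),
   (98, [5, 4, 3, 2, 0], 1),
   (99, [5, 4, 3, 1, 2, 0, 6, 5, 4], 1),
   (100, [5, 4, 3, 1, 2, 0, 6, 5], 1),
   (101, [5, 4, 3, 1, 2, 0, 6], 1),
   (102, [5, 4, 3, 1, 2, 0], 1),
   (103, [5, 4, 3, 1, 2, 0, 3, 6, 5], 1),
   (104, [5, 4, 3, 1, 2, 0, 3, 6], 1),
   (105, [5, 4, 3, 1, 2, 0, 3], 1),
   (106, [5, 4, 3, 1, 2, 0, 3, 4, 6], 1),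
   (107, [5, 4, 3, 1, 2, 0, 3, 4], 1),
   (108, [5, 4, 3, 1, 2, 0, 3, 4, 5], 1),
   (109, [5, 4, 3, 1, 2, 0, 3, 2, 6, 5], 1),
   (110, [5, 4, 3, 1, 2, 0, 3, 2, 6], 1),
   (111, [5, 4, 3, 1, 2, 0, 3, 2], 1),
   (112, [5, 4, 3, 1, 2, 0, 3, 2, 4, 6], 1),
   (113, [5, 4, 3, 1, 2, 0, 3, 2, 4], 1),
   (114, [5, 4, 3, 1, 2, 0, 3, 2, 4, 5], 1),
   (115, [5, 4, 3, 1, 2, 0, 3, 2, 4, 3, 6], 1),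
   (116, [5, 4, 3, 1, 2, 0, 3, 2, 4, 3], 1),
   (117, [5, 4, 3, 1, 2, 0, 3, 2, 4, 3, 5], 1),
   (118, [5, 4, 3, 1, 2, 0, 3, 2, 4, 3, 5, 4], 1),
   (119, [5, 4, 3, 1, 2, 0, 3, 2, 4, 3, 1, 6], 1),
   (120, [5, 4, 3, 1, 2, 0, 3, 2, 4, 3, 1], 1),
   (121, [5, 4, 3, 1, 2, 0, 3, 2, 4, 3, 1, 5], 1),
   (122, [5, 4, 3, 1, 2, 0, 3, 2, 4, 3, 1, 5, 4], 1),
   (123, [5, 4, 3, 1, 2, 0, 3, 2, 4, 3, 1, 5, 4, 3], 1),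
   (124, [5, 4, 3, 1, 2, 0, 3, 2, 4, 3, 1, 5, 4, 3, 2], 1),
   (125, [5, 4, 3, 1, 2, 0, 3, 2, 4, 3, 1, 5, 4, 3, 2, 0], 1)]

def row1 : List WStep :=
  [(0, [4, 3, 1, 2, 0, 3, 2, 5, 4, 3, 1, 2, 3, 4, 5, 6, 5, 4, 3, 1, 2, 0, 3, 4, 5], 2),
   (1, [4, 3, 1, 2, 0, 3, 2, 5, 4, 3, 1, 2, 3, 4, 5, 6, 5, 4, 3, 1, 2, 3, 4, 5], 2),
   (2, [4, 3, 1, 2, 0, 3, 5, 4, 3, 1, 2, 3, 4, 5, 6, 5, 4, 3, 1, 2, 3, 4, 5], 2),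
   (3, [4, 3, 1, 2, 0, 5, 4, 3, 1, 2, 3, 4, 5, 6, 5, 4, 3, 1, 2, 3, 4, 5], 2),
   (4, [4, 3, 1, 2, 0, 4, 5, 4, 3, 1, 2, 3, 4, 5, 6, 5, 4, 3, 1, 2, 3, 4, 5], 2),
   (7, [6, 3, 2, 0, 4, 3, 2, 5, 4, 3, 1, 2, 0, 3, 2, 4, 3, 5, 4, 6, 5], 2),
   (8, [6, 3, 2, 0, 4, 3, 2, 5, 4, 3, 1, 2, 0, 3, 2, 4, 3, 5, 4, 6, 5, 4], 2),
   (11, [6, 3, 2, 0, 4, 3, 2, 5, 4, 3, 1, 2, 0, 3, 2, 4, 3, 5, 4, 6, 5, 4, 3], 2),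
   (16, [4, 3, 1, 2, 0, 3, 2], 2),
   (17, [6, 3, 2, 0, 4, 3, 2, 5, 4, 3, 1, 2, 0, 3, 2, 4, 3, 5, 4, 6, 5, 4, 3, 2], 2),
   (22, [4, 3, 1, 2, 0, 3], 2),
   (25, [4, 3, 1, 2, 0], 2),
   (26, [4, 3, 1, 2, 0, 4], 2),
   (29, [4, 3, 2, 0], 2),
   (30, [4, 3, 2, 0, 4], 2),
   (31, [4, 3, 2, 0, 4, 3], 2),
   (32, [4, 3, 2, 0, 4, 3, 2], 2),
   (33, [6, 3, 2, 0, 4, 3, 2, 5, 4, 3, 1, 2, 0, 3, 2, 4, 3, 5, 4, 6, 5, 4, 3, 2, 0], 2),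
   (38, [4, 3, 1, 2, 3], 2),
   (41, [4, 3, 1, 2], 2),
   (42, [4, 3, 1, 2, 4], 2),
   (45, [4, 3, 1], 2),
   (46, [4, 3, 1, 4], 2),
   (47, [4, 3, 1, 4, 3], 2),
   (50, [4, 3, 2], 2),
   (51, [4, 3, 2, 4], 2),
   (52, [4, 3, 2, 4, 3], 2),
   (55, [4, 3], 2),
   (56, [4, 3, 4], 2),
   (59, [4], 2),
   (66, [], 2),
   (69, [3, 4], 2),
   (70, [3], 2),
   (73, [3, 2, 4, 3], 2),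
   (74, [3, 2, 4], 2),
   (75, [3, 2], 2),
   (78, [3, 1, 4, 3], 2),
   (79, [3, 1, 4], 2),
   (80, [3, 1], 2),
   (83, [3, 1, 2, 4], 2),
   (84, [3, 1, 2], 2),
   (87, [3, 1, 2, 3], 2),
   (92, [3, 2, 0, 4, 3, 2, 5, 4, 3, 1, 2, 0, 3, 2, 4, 3, 5, 4, 6, 5, 4, 3, 2, 0], 2),
   (93, [3, 2, 0, 4, 3, 2], 2),
   (94, [3, 2, 0, 4, 3], 2),
   (95, [3, 2, 0, 4], 2),
   (96, [3, 2, 0], 2),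
   (99, [3, 1, 2, 0, 4], 2),
   (100, [3, 1, 2, 0], 2),
   (103, [3, 1, 2, 0, 3], 2),
   (108, [3, 2, 0, 4, 3, 2, 5, 4, 3, 1, 2, 0, 3, 2, 4, 3, 5, 4, 6, 5, 4, 3, 2], 2),
   (109, [3, 1, 2, 0, 3, 2], 2),
   (114, [3, 2, 0, 4, 3, 2, 5, 4, 3, 1, 2, 0, 3, 2, 4, 3, 5, 4, 6, 5, 4, 3], 2),
   (117, [3, 2, 0, 4, 3, 2, 5, 4, 3, 1, 2, 0, 3, 2, 4, 3, 5, 4, 6, 5, 4], 2),
   (118, [3, 2, 0, 4, 3, 2, 5, 4, 3, 1, 2, 0, 3, 2, 4, 3, 5, 4, 6, 5], 2),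
   (121, [3, 1, 2, 0, 4, 5, 4, 3, 1, 2, 3, 4, 5, 6, 5, 4, 3, 1, 2, 3, 4, 5], 2),
   (122, [3, 1, 2, 0, 5, 4, 3, 1, 2, 3, 4, 5, 6, 5, 4, 3, 1, 2, 3, 4, 5], 2),
   (123, [3, 1, 2, 0, 3, 5, 4, 3, 1, 2, 3, 4, 5, 6, 5, 4, 3, 1, 2, 3, 4, 5], 2),
   (124, [3, 1, 2, 0, 3, 2, 5, 4, 3, 1, 2, 3, 4, 5, 6, 5, 4, 3, 1, 2, 3, 4, 5], 2),
   (125, [3, 1, 2, 0, 3, 2, 5, 4, 3, 1, 2, 3, 4, 5, 6, 5, 4, 3, 1, 2, 0, 3, 4, 5], 2)]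

def row2 : List WStep :=
  [(0, [4, 0, 2, 3, 1, 2, 0, 3, 2, 4, 3, 5, 4, 3, 1, 2, 3, 6, 5, 4, 3, 1, 2, 0, 3], 3),
   (1, [4, 0, 2, 3, 1, 2, 0, 3, 2, 4, 3, 5, 4, 3, 1, 2, 3, 6, 5, 4, 3, 1, 2, 3], 3),
   (2, [4, 0, 2, 3, 1, 2, 0, 3, 2, 4, 3, 2, 5, 4, 3, 1, 2, 3, 6, 5, 4, 3, 1, 2, 3], 3),
   (11, [4, 0, 2, 3, 1, 2, 0, 3, 2, 4, 3, 5, 4, 6, 5], 3),
   (16, [4, 0, 2, 3, 1, 2, 0, 3, 2, 4, 3], 3),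
   (17, [4, 0, 2, 3, 1, 2, 0, 3, 2, 4, 3, 2, 5, 4, 6, 5], 3),
   (22, [4, 0, 2, 3, 1, 2, 0, 3, 2, 4, 3, 2], 3),
   (31, [2, 0], 3),
   (32, [2, 0, 2], 3),
   (33, [4, 0, 2, 3, 1, 2, 0, 3, 2, 4, 3, 2, 0, 5, 4, 6, 5], 3),
   (38, [4, 0, 2, 3, 1, 2, 0, 3, 2, 4, 3, 2, 0], 3),
   (47, [1], 4),
   (52, [2], 3),
   (73, [], 3),
   (78, [], 4),
   (87, [0, 2, 3, 1, 2, 0, 3, 2, 4, 3, 2, 0], 3),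
   (92, [0, 2, 3, 1, 2, 0, 3, 2, 4, 3, 2, 0, 5, 4, 6, 5], 3),
   (93, [0, 2], 3),
   (94, [0], 3),
   (103, [0, 2, 3, 1, 2, 0, 3, 2, 4, 3, 2], 3),
   (108, [0, 2, 3, 1, 2, 0, 3, 2, 4, 3, 2, 5, 4, 6, 5], 3),
   (109, [0, 2, 3, 1, 2, 0, 3, 2, 4, 3], 3),
   (114, [0, 2, 3, 1, 2, 0, 3, 2, 4, 3, 5, 4, 6, 5], 3),
   (123, [0, 2, 3, 1, 2, 0, 3, 2, 4, 3, 2, 5, 4, 3, 1, 2, 3, 6, 5, 4, 3, 1, 2, 3], 3),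
   (124, [0, 2, 3, 1, 2, 0, 3, 2, 4, 3, 5, 4, 3, 1, 2, 3, 6, 5, 4, 3, 1, 2, 3], 3),
   (125, [0, 2, 3, 1, 2, 0, 3, 2, 4, 3, 5, 4, 3, 1, 2, 3, 6, 5, 4, 3, 1, 2, 0, 3], 3)]

def row3 : List WStep :=
  [(0, [0, 2, 3, 1, 4, 3, 2, 0, 5, 4, 3, 1, 2, 3, 4, 5, 6, 5, 4, 3, 2, 1, 3, 4, 5, 0, 2, 3, 4, 1, 3, 2, 0], 6),
   (33, [1, 3, 2, 4, 3, 5, 4, 6, 5], 5),
   (38, [1, 3, 2, 4, 3], 5),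
   (47, [1], 5),
   (78, [], 5),
   (87, [3, 2, 4, 3], 5),
   (92, [3, 2, 4, 3, 5, 4, 6, 5], 5),
   (125, [], 6)]

def row4 : List WStep :=
  [(0, [2, 0, 3, 1, 4, 3, 2, 5, 4, 3, 1, 6, 5, 4, 3, 2, 0], 5),
   (1, [2, 0, 3, 1, 4, 3, 2, 5, 4, 3, 1, 6, 5, 4, 3, 2], 5),
   (2, [2, 0, 3, 1, 4, 3, 2, 5, 4, 3, 1, 6, 5, 4, 3], 5),
   (11, [2, 0, 3, 1, 4, 3, 2, 5, 4, 6, 5], 5),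
   (16, [2, 0, 3, 1, 4, 3, 2], 5),
   (17, [2, 0, 3, 1, 4, 3, 5, 4, 6, 5], 5),
   (22, [2, 0, 3, 1, 4, 3], 5),
   (31, [2, 0], 5),
   (32, [2, 0, 2], 5),
   (33, [2, 3, 1, 4, 3, 5, 4, 6, 5], 5),
   (38, [2, 3, 1, 4, 3], 5),
   (52, [2], 5),
   (73, [], 5),
   (87, [3, 1, 4, 3], 5),
   (92, [3, 1, 4, 3, 5, 4, 6, 5], 5),
   (93, [0, 2], 5),
   (94, [0], 5),
   (103, [0, 3, 1, 4, 3], 5),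
   (108, [0, 3, 1, 4, 3, 5, 4, 6, 5], 5),
   (109, [0, 3, 1, 4, 3, 2], 5),
   (114, [0, 3, 1, 4, 3, 2, 5, 4, 6, 5], 5),
   (123, [0, 3, 1, 4, 3, 2, 5, 4, 3, 1, 6, 5, 4, 3], 5),
   (124, [0, 3, 1, 4, 3, 2, 5, 4, 3, 1, 6, 5, 4, 3, 2], 5),
   (125, [0, 3, 1, 4, 3, 2, 5, 4, 3, 1, 6, 5, 4, 3, 2, 0], 5)]

def row5 : List WStep :=
  [(0, [3, 1, 2, 3, 4, 3, 2, 1, 3, 0, 2, 5, 4, 3, 1, 6, 5, 4, 3, 2, 0], 7),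
   (33, [3, 1, 2, 3, 4, 3, 2, 1, 3, 5, 4, 6, 5], 7),
   (38, [3, 1, 2, 3, 4, 3, 2, 1, 3], 7),
   (87, [], 7),
   (92, [5, 4, 6, 5], 7),
   (125, [0, 2, 5, 4, 3, 1, 6, 5, 4, 3, 2, 0], 7)]

def row6 : List WStep :=
  [(33, [6, 0, 2, 5, 4, 3, 1, 2, 0, 3, 2, 4, 3, 5, 4, 6, 5, 4, 3, 2, 0], 7),
   (38, [6, 0, 2, 5, 4, 3, 1, 2, 0, 3, 2, 6, 5, 4, 3, 2, 0], 7),
   (47, [6, 0, 2, 5, 4, 3, 1, 6, 5, 4, 3, 2, 0], 7),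
   (78, [0, 2, 5, 4, 3, 1, 6, 5, 4, 3, 2, 0], 7),
   (87, [0, 2, 5, 4, 3, 1, 2, 0, 3, 2, 6, 5, 4, 3, 2, 0], 7),
   (92, [0, 2, 5, 4, 3, 1, 2, 0, 3, 2, 4, 3, 5, 4, 6, 5, 4, 3, 2, 0], 7)]

def row7 : List WStep :=
  [(0, [5, 4, 3, 1, 2, 3, 4, 5, 6, 5, 4, 3, 2, 1, 3, 4, 5, 0, 2, 3, 1, 4, 3, 2, 0], 8),
   (33, [5, 4, 3, 1, 2, 3, 4, 5, 6, 5, 4, 3, 2, 1, 3, 4, 5], 8),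
   (92, [], 8),
   (125, [0, 2, 3, 1, 4, 3, 2, 0], 8)]

def row8 : List WStep :=
  [(0, [0, 2, 3, 1, 4, 3, 2, 0, 5, 4, 3, 1, 2, 3, 4, 5, 6, 5, 4, 3, 2, 1, 3, 4, 5, 0, 2, 3, 4, 1, 3, 2, 0], 9),
   (125, [], 9)]

def row9 : List WStep :=
  []

def reds : List WRed :=
  [([110, 106, 66, 105], [63, 66, 73], [], 3),
   ([79, 74, 73, 70], [63, 66, 73, 78], [], 5),
   ([88, 67, 66, 65], [63, 66, 73, 78, 87], [], 7),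
   ([110, 106, 66, 105], [63, 66, 73, 78, 87, 92], [], 8)]

def tab : OrbitTab where
  reps := [[], [63], [63, 66], [63, 66, 73], [63, 66, 78], [63, 66, 73, 78], [63, 66, 73, 125], [63, 66, 73, 78, 87], [63, 66, 73, 78, 87, 92], [63, 66, 73, 78, 87, 92, 125]]
  rows := [row0, row1, row2, row3, row4, row5, row6, row7, row8, row9]
  reds := reds
  keep := 6

theorem reps_ok : chkReps chevE7 Chev.E7.cert tab = true := by decide +kernel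

theorem rows_ok : chkRows chevE7 Chev.E7.cert tab = true := by decide +kernel

theorem reds_ok : chkReds chevE7 Chev.E7.cert tab = true := by decide +kernel

end Cfsg.Agent.Lib.InvE66.E7
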