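import Cfsg.Agent.Lib.InvE66.Rank

/-!
The classes of involutions from the certificates.
-/

set_option autoImplicit false

namespace Cfsg.Agent.Lib.InvE66

open Cfsg.Lie Cfsg.Agent.Lib.Chev Cfsg.Agent.Lib.ChevCent

variable {D : ChevalleyDatum} {C : Cert} {F : Type*} [Field F] [CharP F 2]

namespace Laced

variable (h : Laced D C)
include h

local notation "PX" => prodX h.toRooted.toChecked F

theorem rep_spec {T : OrbitTab} (h1 : chkReps D C T = true) {k n : ℕ} {R : RankCert}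
    (hR : chkRank D C (T.reps.getD k []) R = true) (hn : R.gens.length = n) (hpos : n ≠ 0) :
    PX (T.reps.getD k []) ∈ D.group F ∧ orderOf (PX (T.reps.getD k [])) = 2 ∧
      (((PX (T.reps.getD k []) : GL D.Idx F) : Matrix D.Idx D.Idx F) - 1).rank = n := by
  have hflat := h.rep_flat h1 k
  refine ⟨h.prodX_mem fun r hr => ((chkFlat_spec hflat).1 r hr).2,
    orderOf_prodX h.toRooted.toChecked hR (by rw [hn]; exact hpos) (h.prodX_sq hflat), ?_⟩
  rw [← hn]
  exact rank_eq h.toRooted.toChecked hR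

theorem exists_nontrivial_rep [Fintype F] {T : OrbitTab} (h1 : chkReps D C T = true) (h2 : chkRows D C T = true)
    (h3 : chkReds D C T = true) (h0 : T.reps.getD 0 [] = []) {g : GL D.Idx F} (hg : g ∈ D.group F)
    (hord : orderOf g = 2) :
    ∃ k, 1 ≤ k ∧ k < T.keep ∧ ∃ z ∈ D.group F, z * g * z⁻¹ = PX (T.reps.getD k []) := by
  obtain ⟨k, hk, z, hz, e⟩ := h.exists_rep h1 h2 h3 hg hord
  refine ⟨k, Nat.one_le_iff_ne_zero.2 fun hk0 => ?_, hk, z, hz, e⟩
  subst hk0
  rw [h0, h.prodX_nil, conj_eq_one_iff] at e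
  subst e
  rw [orderOf_one] at hord
  omega

theorem coe_prodX_two (a b : ℕ) :
    ((PX [a, b] : GL D.Idx F) : Matrix D.Idx D.Idx F) = D.x F a 1 * D.x F b 1 := by
  simp [prodX, word, coe_xg]

theorem coe_prodX_one (a : ℕ) : ((PX [a] : GL D.Idx F) : Matrix D.Idx D.Idx F) = D.x F a 1 := by
  simp [prodX, word, coe_xg]

theorem coe_prodX_three (a b c : ℕ) :
    ((PX [a, b, c] : GL D.Idx F) : Matrix D.Idx D.Idx F) = D.x F a 1 * D.x F b 1 * D.x F c 1 := by
  simp [prodX, word, coe_xg, mul_assoc]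

theorem coe_prodX_four (a b c d : ℕ) :
    ((PX [a, b, c, d] : GL D.Idx F) : Matrix D.Idx D.Idx F) =
      D.x F a 1 * D.x F b 1 * D.x F c 1 * D.x F d 1 := by
  simp [prodX, word, coe_xg, mul_assoc]

end Laced

end Cfsg.Agent.Lib.InvE66
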