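import Cfsg.Agent.Lib.ChevCent.Lemmas
import Cfsg.Agent.Lib.Chev.Torus

/-!
Simply laced data over a field of characteristic two: the pairing of roots, sums of roots and the commutator
relations without signs.
-/

set_option autoImplicit false

namespace Cfsg.Agent.Lib.InvE66

open Cfsg.Lie Cfsg.Agent.Lib.Chev Cfsg.Agent.Lib.ChevCent
open scoped Matrix

/-- The pairing of two roots. -/
def prs (D : ChevalleyDatum) (C : Cert) (r s : ℕ) : ℤ :=
  ∑ j ∈ Finset.range D.rank, D.cartan j r * coef D C j s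

/-- The sum of two roots, read off the commutator terms. -/
def sumR (C : Cert) (r s : ℕ) : ℕ := ((cTerms C r s).head?.map Prod.fst).getD 0

/-- The conditions at the fundamental roots. -/
def chkLaced (D : ChevalleyDatum) (C : Cert) : Bool :=
  chkShort D &&
  allN D.rank (fun i => allN D.rank fun j => decide (cm C i j = cm C j i)) &&
  allN D.rank (fun i => allN D.nroots fun s =>
    s == D.simple i || s == ng D (D.simple i) ||
      (decide (D.cartan i s = -1) && match cE C (D.simple i) s with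
        | [e] => decide (e.2 % 2 = 1)
        | _ => false) ||
      ((decide (D.cartan i s = 0) || decide (D.cartan i s = 1)) && (cE C (D.simple i) s).isEmpty))

/-- A rooted simply laced datum. -/
structure Laced (D : ChevalleyDatum) (C : Cert) : Prop extends Rooted D C where
  laced_ok : chkLaced D C = true

variable {D : ChevalleyDatum} {C : Cert} {F : Type*} [Field F]

namespace Laced

variable (h : Laced D C)
include h

theorem chk : chkShort D = true ∧ (∀ i < D.rank, ∀ j < D.rank, cm C i j = cm C j i) ∧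
    ∀ i < D.rank, ∀ s < D.nroots, s ≠ D.simple i → s ≠ ng D (D.simple i) →
      (D.cartan i s = -1 ∧ ∃ e, cE C (D.simple i) s = [e] ∧ e.2 % 2 = 1) ∨
      ((D.cartan i s = 0 ∨ D.cartan i s = 1) ∧ cE C (D.simple i) s = []) := by
  have hb := h.laced_ok
  simp only [chkLaced, Bool.and_eq_true, allN_iff, decide_eq_true_eq, Bool.or_eq_true, beq_iff_eq,
    List.isEmpty_iff] at hb
  refine ⟨hb.1.1, hb.1.2, fun i hi s hs h1 h2 => ?_⟩
  rcases hb.2 i hi s hs with ((e | e) | ⟨e, e'⟩) | e
  · exact absurd e h1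
  · exact absurd e h2
  · refine Or.inl ⟨e, ?_⟩
    split at e'
    · next x hx => exact ⟨x, hx, by simpa using e'⟩
    · simp at e'
  · exact Or.inr e

theorem isAdd_prs (r : ℕ) : IsAdd D C (prs D C r) := h.toRooted.toChecked.isAdd_sum fun j => D.cartan j r

theorem prs_comm {r s : ℕ} (hr : r < D.nroots) (hs : s < D.nroots) : prs D C r s = prs D C s r := by
  have hc := h.toRooted.toChecked
  have e : ∀ {a b : ℕ}, a < D.nroots → prs D C a b =
      ∑ j ∈ Finset.range D.rank, ∑ i ∈ Finset.range D.rank, coef D C i a * cm C j i * coef D C j b :=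
    fun {a b} ha => Finset.sum_congr rfl fun j hj => by
      rw [hc.cartan_eq (Finset.mem_range.1 hj) ha, zsum_eq, Finset.sum_mul]
  rw [e hr, e hs, Finset.sum_comm]
  refine Finset.sum_congr rfl fun j hj => Finset.sum_congr rfl fun i hi => ?_
  rw [h.chk.2.1 i (Finset.mem_range.1 hi) j (Finset.mem_range.1 hj)]
  ring

theorem prs_ng {r s : ℕ} (hs : s < D.nroots) : prs D C r (ng D s) = - prs D C r s := (h.isAdd_prs r).map_ng s hs

theorem prs_simple {i s : ℕ} (hi : i < D.rank) (hs : s < D.nroots) : prs D C (D.simple i) s = D.cartan i s := by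
  have hc := h.toRooted.toChecked
  rw [hc.cartan_eq hi hs, zsum_eq]
  refine Finset.sum_congr rfl fun j hj => ?_
  rw [← hc.cm_eq hi (Finset.mem_range.1 hj), h.chk.2.1 j (Finset.mem_range.1 hj) i hi]
  ring

theorem prs_refl {i r s : ℕ} (hi : i < D.rank) (hr : r < D.nroots) (hs : s < D.nroots) :
    prs D C (refl C i r) (refl C i s) = prs D C r s := by
  have hc := h.toRooted.toChecked
  have hkk : cm C i i = 2 := by rw [hc.cm_eq hi hi, hc.cartan_self hi]
  have hsum : ∑ j ∈ Finset.range D.rank, cm C j i * coef D C j s = D.cartan i s := by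
    rw [hc.cartan_eq hi hs, zsum_eq]
    exact Finset.sum_congr rfl fun j hj => by rw [h.chk.2.1 j (Finset.mem_range.1 hj) i hi]; ring
  have step : ∀ j ∈ Finset.range D.rank, D.cartan j (refl C i r) * coef D C j (refl C i s) =
      D.cartan j r * coef D C j s - D.cartan i r * (cm C j i * coef D C j s) +
        (if j = i then D.cartan i r * D.cartan i s else 0) := by
    intro j hj
    rw [hc.cartan_refl hi (Finset.mem_range.1 hj) hr, hc.coef_refl hi (Finset.mem_range.1 hj) hs]
    split_ifs with e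
    · subst e; rw [hkk]; ring
    · ring
  unfold prs
  rw [Finset.sum_congr rfl step, Finset.sum_add_distrib, Finset.sum_sub_distrib, ← Finset.mul_sum, hsum,
    Finset.sum_ite_eq' (Finset.range D.rank) i, if_pos (Finset.mem_range.2 hi)]
  ring

theorem prs_self {r : ℕ} (hr : r < D.nroots) : prs D C r r = 2 :=
  h.toRooted.root_induction (P := fun r => prs D C r r = 2)
    (fun i hi => by
      rw [h.prs_simple hi (h.toRooted.toChecked.simple_lt hi), h.toRooted.toChecked.cartan_self hi])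
    (fun i hi r hr e => by rw [h.prs_refl hi hr hr, e]) r hr

theorem cTerms_short' {r s : ℕ} (hr : r < D.nroots) (hs : s < D.nroots) :
    cTerms C r s = ((cE C r s)[0]?).toList.map fun e => (e.1, e.2, 1, 1) := by
  have hc := h.toRooted.toChecked
  exact Checked.cTerms_short (hc.short_length h.chk.1 hr _) (hc.short_length h.chk.1 hs _)

theorem cTerms_map {i r s : ℕ} (hi : i < D.rank) (hr : r < D.nroots) (hs : s < D.nroots) :
    cTerms C (refl C i r) (refl C i s) = mapTerms C i r s (cTerms C r s) := by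
  have hc := h.toRooted.toChecked
  rw [h.cTerms_short' (hc.refl_lt hi hr) (hc.refl_lt hi hs), h.cTerms_short' hr hs, hc.cE_refl hi hr hs,
    mapEntry_getElem?]
  cases (cE C r s)[0]? with
  | none => rfl
  | some e => simp [mapTerms]; ring

/-- The trichotomy of a pair of roots which are neither equal nor opposite. -/
theorem pair_cases {r : ℕ} (hr : r < D.nroots) : ∀ s < D.nroots, s ≠ r → s ≠ ng D r →
    (prs D C r s = -1 ∧ ∃ τ c, cTerms C r s = [(τ, c, 1, 1)] ∧ c % 2 = 1) ∨
    ((prs D C r s = 0 ∨ prs D C r s = 1) ∧ cTerms C r s = []) := by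
  have hc := h.toRooted.toChecked
  suffices key : ∀ r < D.nroots, ∀ s < D.nroots, s ≠ r → s ≠ ng D r →
    (prs D C r s = -1 ∧ ∃ τ c, cTerms C r s = [(τ, c, 1, 1)] ∧ c % 2 = 1) ∨
    ((prs D C r s = 0 ∨ prs D C r s = 1) ∧ cTerms C r s = []) from key r hr
  clear hr r
  refine h.toRooted.root_induction (P := fun r => ∀ s < D.nroots, s ≠ r → s ≠ ng D r →
    (prs D C r s = -1 ∧ ∃ τ c, cTerms C r s = [(τ, c, 1, 1)] ∧ c % 2 = 1) ∨
    ((prs D C r s = 0 ∨ prs D C r s = 1) ∧ cTerms C r s = [])) ?_ ?_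
  · intro i hi s hs h1 h2
    rw [h.prs_simple hi hs, h.cTerms_short' (hc.simple_lt hi) hs]
    rcases h.chk.2.2 i hi s hs h1 h2 with ⟨e, x, hx, hx2⟩ | ⟨e, hx⟩
    · exact Or.inl ⟨e, x.1, x.2, by simp [hx], hx2⟩
    · exact Or.inr ⟨e, by simp [hx]⟩
  · intro i hi r hr ih s hs h1 h2
    obtain ⟨s', hs', rfl⟩ : ∃ s' < D.nroots, refl C i s' = s :=
      ⟨refl C i s, hc.refl_lt hi hs, hc.refl_refl hi hs⟩
    rw [← hc.refl_ng hi hr] at h2
    rw [h.prs_refl hi hr hs', h.cTerms_map hi hr hs']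
    rcases ih s' hs' (fun e => h1 (by rw [e])) (fun e => h2 (by rw [e])) with ⟨e, τ, c, hx, hx2⟩ | ⟨e, hx⟩
    · refine Or.inl ⟨e, refl C i τ, eta C i τ * c * eta C i r ^ 1 * eta C i s' ^ 1, by simp [hx, mapTerms], ?_⟩
      rcases eta_cases (C := C) i τ with e1 | e1 <;> rcases eta_cases (C := C) i r with e2 | e2 <;>
        rcases eta_cases (C := C) i s' with e3 | e3 <;> simp [e1, e2, e3] <;> omega
    · exact Or.inr ⟨e, by simp [hx, mapTerms]⟩

theorem prs_ng_self {r : ℕ} (hr : r < D.nroots) : prs D C r (ng D r) = -2 := by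
  rw [h.prs_ng hr, h.prs_self hr]

theorem ne_of_prs {r s : ℕ} (hr : r < D.nroots) (hp : prs D C r s ≠ 2) (hm : prs D C r s ≠ -2) :
    s ≠ r ∧ s ≠ ng D r :=
  ⟨fun e => hp (by rw [e]; exact h.prs_self hr), fun e => hm (by rw [e]; exact h.prs_ng_self hr)⟩

theorem prs_range {r s : ℕ} (hr : r < D.nroots) (hs : s < D.nroots) :
    s = r ∨ s = ng D r ∨ prs D C r s = -1 ∨ prs D C r s = 0 ∨ prs D C r s = 1 := by
  by_cases h1 : s = r
  · exact Or.inl h1
  by_cases h2 : s = ng D r
  · exact Or.inr (Or.inl h2)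
  rcases h.pair_cases hr s hs h1 h2 with ⟨e, -⟩ | ⟨e, -⟩
  · exact Or.inr (Or.inr (Or.inl e))
  · exact Or.inr (Or.inr (Or.inr e))

theorem eq_of_prs_two {r s : ℕ} (hr : r < D.nroots) (hs : s < D.nroots) (e : prs D C r s = 2) : s = r := by
  rcases h.prs_range hr hs with e1 | e1 | e1 | e1 | e1
  · exact e1
  · rw [e1, h.prs_ng_self hr] at e; omega
  all_goals omega

theorem cTerms_nil_of_nonneg {r s : ℕ} (hr : r < D.nroots) (hs : s < D.nroots) (hne : s ≠ r)
    (e : 0 ≤ prs D C r s) : cTerms C r s = [] := by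
  have hm : prs D C r s ≠ -2 := by omega
  have h2 : s ≠ ng D r := fun e' => hm (by rw [e']; exact h.prs_ng_self hr)
  rcases h.pair_cases hr s hs hne h2 with ⟨e', -⟩ | ⟨-, e'⟩
  · omega
  · exact e'

theorem sum_spec {r s : ℕ} (hr : r < D.nroots) (hs : s < D.nroots) (e : prs D C r s = -1) :
    sumR C r s < D.nroots ∧ (∀ φ : ℕ → ℤ, IsAdd D C φ → φ (sumR C r s) = φ r + φ s) ∧
      ∃ c : ℤ, cTerms C r s = [(sumR C r s, c, 1, 1)] ∧ c % 2 = 1 := by
  obtain ⟨h1, h2⟩ := h.ne_of_prs hr (s := s) (by omega) (by omega)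
  rcases h.pair_cases hr s hs h1 h2 with ⟨-, τ, c, hx, hx2⟩ | ⟨e', -⟩
  · have hτ : sumR C r s = τ := by simp [sumR, hx]
    rw [hτ]
    obtain ⟨a, -, -, b⟩ := h.toRooted.toChecked.cTerms_spec hr hs (τ, c, 1, 1) (by simp [hx])
    exact ⟨a, fun φ hφ => by simpa using b φ hφ, c, hx, hx2⟩
  · omega

theorem prs_sum {r s a : ℕ} (hr : r < D.nroots) (hs : s < D.nroots) (e : prs D C r s = -1) :
    prs D C a (sumR C r s) = prs D C a r + prs D C a s := (h.sum_spec hr hs e).2.1 _ (h.isAdd_prs a)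

theorem sum_pos {r s : ℕ} (hr : r ∈ posSet D) (hs : s ∈ posSet D) (e : prs D C r s = -1) :
    sumR C r s ∈ posSet D := by
  obtain ⟨-, -, c, hx, -⟩ := h.sum_spec hr.2 hs.2 e
  exact (h.toRooted.toChecked.cTerms_pos hr hs (c := (sumR C r s, c, 1, 1)) (by simp [hx])).1

/-- Roots with equal additive values are equal. -/
theorem eq_of_cd {r s : ℕ} (hr : r < D.nroots) (hs : s < D.nroots) (e : cd D C r = cd D C s) : r = s := by
  have hc := h.toRooted.toChecked
  have h1 := hc.lt_iff_cd_lt hr hs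
  have h2 := hc.lt_iff_cd_lt hs hr
  omega

/-- The difference of two roots with pairing one. -/
theorem sub_spec {r s : ℕ} (hr : r < D.nroots) (hs : s < D.nroots) (e : prs D C r s = 1) :
    ∃ δ < D.nroots, prs D C r δ = 1 ∧ prs D C s δ = -1 ∧ sumR C s δ = r ∧
      ∀ φ : ℕ → ℤ, IsAdd D C φ → φ δ = φ r - φ s := by
  have hn : ng D s < D.nroots := Checked.ng_lt hs
  have e' : prs D C r (ng D s) = -1 := by rw [h.prs_ng hs, e]
  obtain ⟨hlt, hφ, -⟩ := h.sum_spec hr hn e'
  have hval : ∀ φ : ℕ → ℤ, IsAdd D C φ → φ (sumR C r (ng D s)) = φ r - φ s := fun φ hφ' => by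
    rw [hφ φ hφ', hφ'.map_ng s hs]; ring
  have h1 : prs D C r (sumR C r (ng D s)) = 1 := by rw [hval _ (h.isAdd_prs r), h.prs_self hr, e]; ring
  have h2 : prs D C s (sumR C r (ng D s)) = -1 := by
    rw [hval _ (h.isAdd_prs s), h.prs_self hs, h.prs_comm hs hr, e]; ring
  refine ⟨_, hlt, h1, h2, ?_, hval⟩
  obtain ⟨hlt', hφ', -⟩ := h.sum_spec hs hlt h2
  refine h.eq_of_cd hlt' hr ?_
  rw [hφ' _ h.toRooted.toChecked.isAdd_cd, hval _ h.toRooted.toChecked.isAdd_cd]
  ring

/-! ### Relations in characteristic two -/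

local notation "X" => xg h.toRooted.toChecked

theorem commute_of_nonneg [CharP F 2] {r s : ℕ} (hr : r < D.nroots) (hs : s < D.nroots)
    (e : 0 ≤ prs D C r s) (a b : F) : Commute (X r a) (X s b) := by
  have hm : prs D C r s ≠ -2 := by omega
  refine xg_commute h.toRooted.toChecked hr hs (fun e' => hm (by rw [e']; exact h.prs_ng_self hr)) ?_ b a
  by_cases h1 : s = r
  · exact Or.inl h1
  · exact Or.inr (by simp [evenTerms, h.cTerms_nil_of_nonneg hr hs h1 e])

theorem conj_sum [CharP F 2] {r s : ℕ} (hr : r < D.nroots) (hs : s < D.nroots) (e : prs D C r s = -1)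
    (a b : F) : X s a * X r b * (X s a)⁻¹ = X (sumR C r s) (a * b) * X r b := by
  obtain ⟨-, -, c, hx, hx2⟩ := h.sum_spec hr hs e
  obtain ⟨h1, h2⟩ := h.ne_of_prs hr (s := s) (by omega) (by omega)
  exact conj_single h.toRooted.toChecked ⟨hr, hs, h1, h2, hx, hx2⟩ a b

omit h in
theorem xg_inv_two (hh : Checked D C) [CharP F 2] (r : ℕ) (a : F) : (xg hh r a)⁻¹ = xg hh r a := by
  rw [xg_inv, CharTwo.neg_eq]

omit h in
theorem xg_mul_self (hh : Checked D C) [CharP F 2] (r : ℕ) (a : F) : xg hh r a * xg hh r a = 1 := by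
  rw [← xg_add, CharTwo.add_self_eq_zero, xg_zero]

end Laced

end Cfsg.Agent.Lib.InvE66
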