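import Cfsg.Agent.Lib.InvE66.Classes

/-!
The rank of `y - 1` for products of root elements with unit coefficients in characteristic two, from bit masks.
-/

set_option autoImplicit false

namespace Cfsg.Agent.Lib.InvE66

open Cfsg.Lie Cfsg.Agent.Lib.Chev Cfsg.Agent.Lib.ChevCent
open scoped Matrix

/-- The exclusive or of the first `n` values. -/
def xorUpTo (f : ℕ → ℕ) : ℕ → ℕ
  | 0 => 0
  | n + 1 => xorUpTo f n ^^^ f n

/-- The exclusive or of the columns at the bits of `v` below `n`. -/
def appl (col : ℕ → ℕ) (n v : ℕ) : ℕ := xorUpTo (fun c => bif v.testBit c then col c else 0) n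

/-- The column at `c` of `x_r(1)` over two elements. -/
def colX (D : ChevalleyDatum) (C : Cert) (r c : ℕ) : ℕ :=
  ((List.range 4).flatMap (eCol D C r c)).foldr
    (fun e acc => bif decide (e.2 % 2 = 0) then acc else 2 ^ e.1 ^^^ acc) 0

/-- The column at `c` of a product. -/
def colW (D : ChevalleyDatum) (C : Cert) (L : List ℕ) (c : ℕ) : ℕ :=
  L.foldr (fun r v => appl (colX D C r) (D.nroots + D.rank) v) (2 ^ c)

/-- Columns of `y - 1`, and triples (pivot, basis vector of the image, preimage). -/
structure RankCert where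
  cols : List ℕ
  gens : List (ℕ × ℕ × ℕ)

def chkRank (D : ChevalleyDatum) (C : Cert) (L : List ℕ) (R : RankCert) : Bool :=
  let dim := D.nroots + D.rank
  L.all (fun r => Nat.blt r D.nroots) &&
  allN dim (fun c => decide (colW D C L c ^^^ 2 ^ c = R.cols.getD c 0) &&
    decide (xorUpTo (fun i => bif (R.cols.getD c 0).testBit (R.gens.getD i (0, 0, 0)).1
      then (R.gens.getD i (0, 0, 0)).2.1 else 0) R.gens.length = R.cols.getD c 0)) &&
  allN R.gens.length (fun i => Nat.blt (R.gens.getD i (0, 0, 0)).1 dim &&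
    decide (appl (fun c => R.cols.getD c 0) dim (R.gens.getD i (0, 0, 0)).2.2 = (R.gens.getD i (0, 0, 0)).2.1) &&
    allN R.gens.length fun j => (R.gens.getD j (0, 0, 0)).2.1.testBit (R.gens.getD i (0, 0, 0)).1 == Nat.beq i j)

variable {D : ChevalleyDatum} {C : Cert} {F : Type*} [Field F]

/-- The vector of a bit mask. -/
def toVec (D : ChevalleyDatum) (F : Type*) [Field F] (v : ℕ) : D.Idx → F :=
  fun x => if v.testBit (idxCode D x) then 1 else 0

theorem toVec_zero : toVec D F 0 = 0 := by funext x; simp [toVec]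

theorem toVec_xor [CharP F 2] (v w : ℕ) : toVec D F (v ^^^ w) = toVec D F v + toVec D F w := by
  funext x
  simp only [toVec, Nat.testBit_xor, Pi.add_apply]
  cases v.testBit (idxCode D x) <;> cases w.testBit (idxCode D x) <;> simp [CharTwo.add_self_eq_zero]

theorem toVec_pow (c : ℕ) : toVec D F (2 ^ c) = bv D F c := by
  funext x
  simp only [toVec, bv, Nat.testBit_two_pow, eq_comm (a := c), decide_eq_true_eq]

theorem toVec_xorUpTo [CharP F 2] (f : ℕ → ℕ) :
    ∀ n, toVec D F (xorUpTo f n) = ∑ i ∈ Finset.range n, toVec D F (f i)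
  | 0 => by simp [xorUpTo, toVec_zero]
  | n + 1 => by rw [xorUpTo, toVec_xor, toVec_xorUpTo f n, Finset.sum_range_succ]

theorem toVec_split (v : ℕ) :
    toVec D F v = ∑ c ∈ Finset.range (D.nroots + D.rank), if v.testBit c then bv D F c else 0 := by
  funext x
  rw [Finset.sum_apply, Finset.sum_eq_single (idxCode D x)]
  · simp only [toVec]
    split_ifs <;> simp [bv]
  · intro c _ hc
    split_ifs <;> simp [bv, Ne.symm hc]
  · intro hn; exact absurd (Finset.mem_range.2 (idxCode_lt x)) hn

theorem mulVec_toVec [CharP F 2] {M : Matrix D.Idx D.Idx F} {col : ℕ → ℕ}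
    (hM : ∀ c < D.nroots + D.rank, M *ᵥ bv D F c = toVec D F (col c)) (v : ℕ) :
    M *ᵥ toVec D F v = toVec D F (appl col (D.nroots + D.rank) v) := by
  rw [toVec_split v, Matrix.mulVec_sum, appl, toVec_xorUpTo]
  refine Finset.sum_congr rfl fun c hc => ?_
  cases v.testBit c
  · simp [toVec_zero]
  · simpa using hM c (Finset.mem_range.1 hc)

theorem evalC_parity [CharP F 2] : ∀ l : List (ℕ × ℤ),
    evalC D F l = toVec D F (l.foldr (fun e acc => bif decide (e.2 % 2 = 0) then acc else 2 ^ e.1 ^^^ acc) 0)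
  | [] => by simp [evalC, toVec_zero]
  | e :: l => by
    have e1 : evalC D F (e :: l) = (e.2 : F) • bv D F e.1 + evalC D F l := by simp [evalC]
    rw [e1, evalC_parity l, List.foldr_cons]
    by_cases h0 : e.2 % 2 = 0
    · simp [h0, natCast_even (F := F) h0]
    · have : (e.2 : F) = 1 := by
        rw [← sub_eq_zero, ← Int.cast_one, ← Int.cast_sub]
        exact natCast_even (by omega)
      simp [h0, this, toVec_xor, toVec_pow]

/-- The rank read off a certificate. -/
theorem rank_of_cert [CharP F 2] {N : Matrix D.Idx D.Idx F} {col : ℕ → ℕ}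
    (hNcol : ∀ c < D.nroots + D.rank, N *ᵥ bv D F c = toVec D F (col c)) (gens : List (ℕ × ℕ × ℕ))
    (hcol : ∀ c < D.nroots + D.rank, xorUpTo (fun i => bif (col c).testBit (gens.getD i (0, 0, 0)).1
      then (gens.getD i (0, 0, 0)).2.1 else 0) gens.length = col c)
    (hgen : ∀ i < gens.length, ((gens.getD i (0, 0, 0)).1 < D.nroots + D.rank ∧
      appl col (D.nroots + D.rank) (gens.getD i (0, 0, 0)).2.2 = (gens.getD i (0, 0, 0)).2.1) ∧
      ∀ j < gens.length, (gens.getD j (0, 0, 0)).2.1.testBit (gens.getD i (0, 0, 0)).1 = Nat.beq i j) :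
    N.rank = gens.length := by
  classical
  set dim := D.nroots + D.rank with hdim
  set k := gens.length with hk
  set p : ℕ → ℕ := fun i => (gens.getD i (0, 0, 0)).1 with hp
  set a : ℕ → ℕ := fun i => (gens.getD i (0, 0, 0)).2.1 with ha
  set y : ℕ → ℕ := fun i => (gens.getD i (0, 0, 0)).2.2 with hy
  have hsurj : ∀ i : Fin k, ∃ z : D.Idx, idxCode D z = p i := by
    intro i
    have := (hgen i i.2).1.1
    by_cases h1 : p i < D.nroots
    · exact ⟨Sum.inr ⟨p i, h1⟩, rfl⟩
    · refine ⟨Sum.inl ⟨p i - D.nroots, by simp only [hp] at h1 ⊢; omega⟩, ?_⟩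
      simp only [idxCode]
      omega
  choose z hz using hsurj
  let A : Matrix D.Idx (Fin k) F := Matrix.of fun x i => toVec D F (a i) x
  let Y : Matrix D.Idx (Fin k) F := Matrix.of fun x i => toVec D F (y i) x
  let P : Matrix (Fin k) D.Idx F := Matrix.of fun i x => if x = z i then 1 else 0
  have hP : ∀ {ι : Type} (M : Matrix D.Idx ι F) (i : Fin k) (u : ι), (P * M) i u = M (z i) u := by
    intro ι M i u
    simp [P, Matrix.mul_apply]
  have hPA : P * A = 1 := by
    ext i j
    rw [hP, Matrix.one_apply]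
    simp only [A, Matrix.of_apply, toVec, hz]
    have := (hgen i i.2).2 j j.2
    simp only [p, a, this]
    rcases eq_or_ne i j with e | e
    · subst e; simp
    · simp [e, Fin.val_ne_iff.2 e]
  have hNY : N * Y = A := by
    ext x i
    have h1 := congrFun (mulVec_toVec hNcol (y i)) x
    rw [(hgen i i.2).1.2] at h1
    exact h1
  have hfac : N = A * (P * N) := by
    ext x u
    have hu := idxCode_lt u
    have h1 : ∀ w, N w u = toVec D F (col (idxCode D u)) w := fun w => by
      rw [← congrFun (hNcol _ hu) w, mulVec_bv]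
    rw [h1, ← hcol _ hu, toVec_xorUpTo, Finset.sum_apply, Matrix.mul_apply,
      Fin.sum_univ_eq_sum_range (fun i => toVec D F (bif (col (idxCode D u)).testBit (p i)
        then a i else 0) x) k |>.symm]
    refine Finset.sum_congr rfl fun i _ => ?_
    rw [hP, h1]
    simp only [A, Matrix.of_apply]
    cases hb : (col (idxCode D u)).testBit (p i)
    · simp only [toVec, hz, hb, cond_false]
      simp
    · simp only [toVec, hz, hb, cond_true]
      simp
  refine le_antisymm ?_ ?_
  · rw [hfac]
    refine (Matrix.rank_mul_le_left _ _).trans ?_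
    exact (Matrix.rank_le_card_width A).trans (by simp)
  · calc k = (1 : Matrix (Fin k) (Fin k) F).rank := by rw [Matrix.rank_one, Fintype.card_fin]
      _ = (P * (N * Y)).rank := by rw [hNY, hPA]
      _ ≤ (N * Y).rank := Matrix.rank_mul_le_right _ _
      _ ≤ N.rank := Matrix.rank_mul_le_left _ _

section Rk

variable (hh : Checked D C)
include hh

theorem x_col [CharP F 2] {r c : ℕ} (hr : r < D.nroots) (hc : c < D.nroots + D.rank) :
    D.x F r 1 *ᵥ bv D F c = toVec D F (colX D C r c) := by
  rw [hh.x_mulVec_bv hr hc, colX, ← evalC_parity]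
  simp [Finset.sum_range_succ, evalC, List.range_succ, List.map_append, List.sum_append, add_assoc]

theorem word_col [CharP F 2] : ∀ {L : List ℕ}, (∀ r ∈ L, r < D.nroots) → ∀ {c : ℕ},
    ((prodX hh F L : GL D.Idx F) : Matrix D.Idx D.Idx F) *ᵥ bv D F c = toVec D F (colW D C L c)
  | [], _, c => by simp [prodX, word, colW, toVec_pow]
  | r :: L, hL, c => by
    have ih := word_col (L := L) (fun x hx => hL x (List.mem_cons_of_mem _ hx)) (c := c)
    have e : prodX hh F (r :: L) = xg hh r 1 * prodX hh F L := word_cons hh r L _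
    rw [e, Units.val_mul, ← Matrix.mulVec_mulVec, ih, coe_xg,
      mulVec_toVec fun d hd => x_col hh (hL r List.mem_cons_self) hd]
    rfl

theorem rank_eq [CharP F 2] {L : List ℕ} {R : RankCert} (hR : chkRank D C L R = true) :
    (((prodX hh F L : GL D.Idx F) : Matrix D.Idx D.Idx F) - 1).rank = R.gens.length := by
  classical
  simp only [chkRank, Bool.and_eq_true, List.all_eq_true, Nat.blt_eq, allN_iff, decide_eq_true_eq,
    beq_iff_eq] at hR
  obtain ⟨⟨hL, hcol⟩, hgen⟩ := hR
  refine rank_of_cert (fun c hc => ?_) R.gens (fun c hc => (hcol c hc).2) hgen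
  rw [Matrix.sub_mulVec, Matrix.one_mulVec, word_col hh hL, ← (hcol c hc).1, toVec_xor, toVec_pow, sub_eq_add_neg]
  congr 1
  funext x
  exact CharTwo.neg_eq _

theorem orderOf_prodX [CharP F 2] {L : List ℕ} {R : RankCert} (hR : chkRank D C L R = true)
    (hk : R.gens.length ≠ 0) (hsq : prodX hh F L * prodX hh F L = 1) : orderOf (prodX hh F L) = 2 := by
  haveI : Fact (Nat.Prime 2) := ⟨Nat.prime_two⟩
  refine orderOf_eq_prime (by rw [pow_two, hsq]) fun e => hk ?_
  rw [← rank_eq hh hR (F := F), e]
  simp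

end Rk

/-- The rank of `y - 1` is constant on conjugacy classes. -/
theorem rank_sub_one_conj (g y : GL D.Idx F) :
    (((g * y * g⁻¹ : GL D.Idx F) : Matrix D.Idx D.Idx F) - 1).rank =
      (((y : GL D.Idx F) : Matrix D.Idx D.Idx F) - 1).rank := by
  have e : ((g * y * g⁻¹ : GL D.Idx F) : Matrix D.Idx D.Idx F) - 1 =
      (g : Matrix D.Idx D.Idx F) * ((y : Matrix D.Idx D.Idx F) - 1) *
        ((g⁻¹ : GL D.Idx F) : Matrix D.Idx D.Idx F) := by
    rw [mul_sub, sub_mul, mul_one, Units.val_mul, Units.val_mul, g.mul_inv]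
  rw [e, Matrix.rank_mul_eq_left_of_isUnit_det _ _ ((Matrix.isUnit_iff_isUnit_det _).1 (g⁻¹).isUnit),
    Matrix.rank_mul_eq_right_of_isUnit_det _ _ ((Matrix.isUnit_iff_isUnit_det _).1 g.isUnit)]

end Cfsg.Agent.Lib.InvE66
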