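import Cfsg.Agent.Lib.InvE66.Descend
import Cfsg.Agent.Lib.Chev.Steinberg
import Cfsg.Agent.Lib.Chev.Borel

/-!
Every involution of the positive part is conjugate to a product of root elements `x_r(1)` over pairwise
orthogonal roots.
-/

set_option autoImplicit false

namespace Cfsg.Agent.Lib.InvE66

open Cfsg.Lie Cfsg.Agent.Lib.Chev Cfsg.Agent.Lib.ChevCent
open scoped Matrix

variable {D : ChevalleyDatum} {C : Cert} {F : Type*} [Field F]

/-- The product of the `x_r(1)` over a list. -/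
noncomputable def prodX (hh : Checked D C) (F : Type*) [Field F] (L : List ℕ) : GL D.Idx F :=
  word hh L fun _ => (1 : F)

namespace Laced

variable (h : Laced D C)
include h

local notation "X" => xg h.toRooted.toChecked
local notation "PX" => prodX h.toRooted.toChecked F

theorem pairing_eq_prs {r : ℕ} (hr : r < D.nroots) : ∀ s < D.nroots, D.pairing r s = prs D C r s := by
  have hc := h.toRooted.toChecked
  revert r
  intro r hr
  refine h.toRooted.root_induction (P := fun r => ∀ s < D.nroots, D.pairing r s = prs D C r s) ?_ ?_ r hr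
  · intro i hi s hs
    rw [hc.pairing_simple hi, h.prs_simple hi hs]
  · intro i hi r hr ih s hs
    obtain ⟨s', hs', rfl⟩ : ∃ s' < D.nroots, refl C i s' = s :=
      ⟨refl C i s, hc.refl_lt hi hs, hc.refl_refl hi hs⟩
    rw [hc.pairing_refl hi hr hs', h.prs_refl hi hr hs', ih s' hs']

/-- A torus element scaling `x_r` by a square, in the group of `±r`. -/
theorem exists_scale {r : ℕ} (hr : r < D.nroots) (s : Fˣ) :
    ∃ g ∈ rootGen D F {a | a = r ∨ a = ng D r},
      ∀ t : F, g * X r t * g⁻¹ = X r ((s : F) ^ 2 * t) := by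
  have hc := h.toRooted.toChecked
  set g : GL D.Idx F := ((D.hWord r (s : F)).map fun x => xg hc x.1 x.2).prod with hg
  have hco : ((g : GL D.Idx F) : Matrix D.Idx D.Idx F) = D.hMat F r (s : F) := by
    rw [hg, ChevalleyDatum.hMat]
    induction D.hWord r (s : F) with
    | nil => simp [ChevalleyDatum.wordMat]
    | cons a l ih =>
      simp only [ChevalleyDatum.wordMat, List.map_cons, List.prod_cons, Units.val_mul] at ih ⊢
      rw [ih, coe_xg]
  refine ⟨g, list_prod_mem fun y hy => ?_, fun t => ?_⟩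
  · obtain ⟨x, hx, rfl⟩ := List.mem_map.1 hy
    refine h.xg_mem ?_ _
    simp only [ChevalleyDatum.hWord, ChevalleyDatum.nWord, hc.neg_eq hr, List.mem_append, List.mem_cons,
      List.not_mem_nil, or_false] at hx
    rcases hx with (rfl | rfl | rfl) | (rfl | rfl | rfl) <;> simp
  rw [mul_inv_eq_iff_eq_mul]
  refine Units.ext ?_
  rw [Units.val_mul, Units.val_mul, coe_xg, coe_xg, hco, h.toRooted.hMat_eq hr, powDiag_eq_charDiag]
  have hχ : ∀ a < D.nroots, chiOf D C (fun j => s ^ D.cartan j r) a = s ^ D.pairing r a := by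
    intro a ha
    rw [h.pairing_eq_prs hr a ha, chiOf, prs]
    have key : ∀ n : ℕ, ∏ j ∈ Finset.range n, (s ^ D.cartan j r) ^ coef D C j a =
        s ^ ∑ j ∈ Finset.range n, D.cartan j r * coef D C j a := by
      intro n
      induction n with
      | zero => simp
      | succ n ih => rw [Finset.prod_range_succ, Finset.sum_range_succ, ih, zpow_add, zpow_mul]
    exact key _
  rw [hc.charDiag_mul_x_of_eq (χ := fun a => s ^ D.pairing r a) (fun j => s ^ D.cartan j r) hr t hχ,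
    h.toRooted.pairing_self hr]
  congr 2

theorem orthSet_cons (L : List ℕ) (r : ℕ) :
    perpSet D C (orthSet D C L) r = posOf D (orthSet D C (r :: L)) := by
  ext a
  simp only [perpSet, posOf, orthSet, Set.mem_setOf_eq, List.forall_mem_cons]
  exact ⟨fun ⟨⟨⟨a1, a2⟩, a3⟩, a4⟩ => ⟨⟨a1, a4, a2⟩, a3⟩, fun ⟨⟨a1, a4, a2⟩, a3⟩ => ⟨⟨⟨a1, a2⟩, a3⟩, a4⟩⟩

theorem prodX_cons (r : ℕ) (L : List ℕ) : PX (r :: L) = X r 1 * PX L := word_cons _ r L _

/-- The classification up to orthogonal sets. -/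
theorem exists_orth [Fintype F] [CharP F 2] : ∀ (n : ℕ) (L : List ℕ),
    ((Finset.range D.nroots).filter fun a => decide (∀ β ∈ L, prs D C β a = 0) = true).card ≤ n →
    ∀ u : GL D.Idx F, u ∈ rootGen D F (posOf D (orthSet D C L)) → u * u = 1 →
    ∃ g ∈ rootGen D F (orthSet D C L), ∃ M : List ℕ, (∀ r ∈ M, r ∈ posOf D (orthSet D C L)) ∧
      M.Pairwise (fun a b => prs D C a b = 0) ∧ g * u * g⁻¹ = PX M := by
  intro n
  induction n using Nat.strong_induction_on with
  | _ n ih =>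
  intro L hcard u hu hsq
  have hc := h.toRooted.toChecked
  set Ψ := orthSet D C L with hΨdef
  have hΨ : IsSub D C Ψ := h.isSub_orthSet L
  by_cases h1 : u = 1
  · exact ⟨1, one_mem _, [], by simp, List.Pairwise.nil, by simp [h1, prodX, word]⟩
  have hnotall : u ∉ rootGen D F {γ | γ ∈ posOf D Ψ ∧
      ((∑ a ∈ Finset.range D.nroots, (Cfsg.Agent.Lib.Chev.ht D C a).toNat : ℕ) : ℤ) + 1 ≤
        Cfsg.Agent.Lib.Chev.ht D C γ} := by
    intro hmem
    refine h1 ?_
    have : ({γ | γ ∈ posOf D Ψ ∧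
        ((∑ a ∈ Finset.range D.nroots, (Cfsg.Agent.Lib.Chev.ht D C a).toNat : ℕ) : ℤ) + 1 ≤
          Cfsg.Agent.Lib.Chev.ht D C γ} : Set ℕ) = ∅ := by
      refine Set.eq_empty_iff_forall_notMem.2 fun γ hγ => ?_
      have h2 := Finset.single_le_sum (f := fun a => (Cfsg.Agent.Lib.Chev.ht D C a).toNat)
        (fun a _ => Nat.zero_le _) (Finset.mem_range.2 hγ.1.2.2)
      have h3 := hγ.2
      skip
      omega
    rw [this] at hmem
    simpa [rootGen] using hmem
  obtain ⟨g₀, hg₀, r, hr, hu₀, hu₀'⟩ := h.descend hΨ _ u hu hnotall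
  have hsq₀ : g₀ * u * g₀⁻¹ * (g₀ * u * g₀⁻¹) = 1 := by
    calc _ = g₀ * (u * u) * g₀⁻¹ := by group
      _ = 1 := by rw [hsq]; group
  obtain ⟨c, hc0, g₁, hg₁, p, hp, e₁, hpp⟩ := h.reduce hΨ hr hu₀ hsq₀ hu₀'
  rw [h.orthSet_cons] at hp
  have hlt : ((Finset.range D.nroots).filter
      fun a => decide (∀ β ∈ r :: L, prs D C β a = 0) = true).card < n := by
    refine lt_of_lt_of_le (Finset.card_lt_card (Finset.ssubset_iff_of_subset ?_ |>.2 ⟨r, ?_, ?_⟩)) hcard
    · intro a ha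
      simp only [Finset.mem_filter, decide_eq_true_eq, List.forall_mem_cons] at ha ⊢
      exact ⟨ha.1, ha.2.2⟩
    · simpa [Finset.mem_filter, hr.1.2.2] using hr.1.1.2
    · simp [Finset.mem_filter, hr.1.2.2, h.prs_self hr.1.2.2]
  obtain ⟨g₂, hg₂, M, hM, hMp, e₂⟩ := ih _ hlt (r :: L) le_rfl p hp hpp
  have hperp : ∀ a ∈ orthSet D C (r :: L), a < D.nroots ∧ 0 ≤ prs D C r a := fun a ha =>
    ⟨ha.1, by rw [ha.2 r List.mem_cons_self]⟩
  have hcg₂ : Commute (X r c) g₂ := h.commute_rootGen hr.1.2.2 hperp c hg₂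
  have hsub : orthSet D C (r :: L) ⊆ Ψ := fun a ha => ⟨ha.1, fun β hβ => ha.2 β (List.mem_cons_of_mem _ hβ)⟩
  obtain ⟨s, hs⟩ := FiniteField.isSquare_of_char_two (CharP.ringChar_of_prime_eq_zero Nat.prime_two
    (by exact_mod_cast CharTwo.two_eq_zero)) (c⁻¹)
  have hs0 : s ≠ 0 := by rintro rfl; simp [hc0] at hs
  obtain ⟨t, ht, hconj⟩ := h.exists_scale (F := F) hr.1.2.2 (Units.mk0 s hs0)
  have htM : Commute t (PX M) := by
    refine Commute.list_prod_right _ _ fun y hy => ?_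
    obtain ⟨a, ha, rfl⟩ := List.mem_map.1 hy
    have ha' := (hM a ha).1
    refine (h.commute_rootGen ha'.1 (fun b hb => ?_) 1 ht).symm
    have h0 := ha'.2 r List.mem_cons_self
    have hra : prs D C a r = 0 := by rw [h.prs_comm ha'.1 hr.1.2.2, h0]
    rcases hb with rfl | rfl
    · exact ⟨hr.1.2.2, le_of_eq hra.symm⟩
    · exact ⟨Checked.ng_lt hr.1.2.2, by rw [h.prs_ng hr.1.2.2, hra]; norm_num⟩
  have htΨ : t ∈ rootGen D F Ψ := rootGen_mono (by
    rintro b (rfl | rfl)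
    · exact hr.1.1
    · exact hΨ.ng_mem r hr.1.1) ht
  refine ⟨t * g₂ * g₁ * g₀, mul_mem (mul_mem (mul_mem htΨ (rootGen_mono hsub hg₂)) hg₁) hg₀, r :: M, ?_, ?_, ?_⟩
  · intro a ha
    rcases List.mem_cons.1 ha with rfl | ha
    · exact hr.1
    · exact ⟨hsub (hM a ha).1, (hM a ha).2⟩
  · exact List.Pairwise.cons (fun a ha => (hM a ha).1.2 r List.mem_cons_self) hMp
  · calc t * g₂ * g₁ * g₀ * u * (t * g₂ * g₁ * g₀)⁻¹ = t * (g₂ * (g₁ * (g₀ * u * g₀⁻¹) * g₁⁻¹) * g₂⁻¹) * t⁻¹ := by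
          group
      _ = t * (X r c * (g₂ * p * g₂⁻¹)) * t⁻¹ := by
          rw [e₁, ← mul_assoc g₂ (X r c) p, ← hcg₂.eq]; simp only [mul_assoc]
      _ = t * X r c * t⁻¹ * (t * PX M * t⁻¹) := by rw [e₂]; group
      _ = _ := by
          rw [hconj, htM.eq, mul_inv_cancel_right, h.prodX_cons]
          congr 2
          rw [Units.val_mk0, pow_two, ← hs, inv_mul_cancel₀ hc0]

/-- Every involution of the group is conjugate to a product over orthogonal positive roots. -/
theorem exists_orth_group [Fintype F] [CharP F 2] {g : GL D.Idx F} (hg : g ∈ D.group F) (hord : orderOf g = 2) :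
    ∃ z ∈ D.group F, ∃ M : List ℕ, M ≠ [] ∧ (∀ r ∈ M, r ∈ posSet D) ∧
      M.Pairwise (fun a b => prs D C a b = 0) ∧ z * g * z⁻¹ = PX M := by
  classical
  have hc := h.toRooted.toChecked
  let g' : ↥(D.group F) := ⟨g, hg⟩
  haveI : Fact (Nat.Prime 2) := ⟨Nat.prime_two⟩
  obtain ⟨P₀, hP₀⟩ := h.toRooted.exists_sylow_posUnipotent (F := F) 2
  have hsub : orderOf g' = 2 := by rw [← Subgroup.orderOf_coe]; exact hord
  have hgp : IsPGroup 2 ↥(Subgroup.zpowers g') :=
    IsPGroup.of_card (n := 1) (by rw [Nat.card_zpowers, hsub, pow_one])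
  obtain ⟨Q, hQ⟩ := hgp.exists_le_sylow
  obtain ⟨k, hk⟩ := MulAction.exists_smul_eq ↥(D.group F) Q P₀
  have hmem : k * g' * k⁻¹ ∈ (P₀ : Subgroup ↥(D.group F)) := by
    rw [← hk]
    exact ⟨g', hQ (Subgroup.mem_zpowers g'), rfl⟩
  rw [hP₀] at hmem
  have hu : (k : GL D.Idx F) * g * (k : GL D.Idx F)⁻¹ ∈ D.posUnipotent F := hmem
  rw [hc.posUnipotent_eq] at hu
  have hset : posOf D (orthSet D C []) = posSet D := by
    ext a
    exact ⟨fun ha => ha.2, fun ha => ⟨⟨ha.2, by simp⟩, ha⟩⟩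
  rw [← hset] at hu
  have hsq : g * g = 1 := by rw [← pow_two, ← hord, pow_orderOf_eq_one]
  have hne : g ≠ 1 := by rintro rfl; rw [orderOf_one] at hord; omega
  obtain ⟨z, hz, M, hM, hMp, e⟩ := h.exists_orth _ [] le_rfl _ hu (by
    calc _ = (k : GL D.Idx F) * (g * g) * (k : GL D.Idx F)⁻¹ := by group
      _ = 1 := by rw [hsq]; group)
  have hzG : z ∈ D.group F := rootGen_le_group (fun a ha => ha.1) hz
  refine ⟨z * k, mul_mem hzG k.2, M, fun hnil => hne ?_, fun a ha => (hM a ha).2, hMp, ?_⟩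
  · subst hnil
    have h2 : (z * k) * g * (z * (k : GL D.Idx F))⁻¹ = 1 := by
      calc _ = z * ((k : GL D.Idx F) * g * (k : GL D.Idx F)⁻¹) * z⁻¹ := by group
        _ = _ := by rw [e]; simp [prodX, word]
    exact conj_eq_one_iff.1 h2
  · calc _ = z * ((k : GL D.Idx F) * g * (k : GL D.Idx F)⁻¹) * z⁻¹ := by group
      _ = _ := e

end Laced

end Cfsg.Agent.Lib.InvE66
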