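import Cfsg.Agent.Lib.InvE66.Laced
import Cfsg.Agent.Lib.ChevCent.RootPair
import Cfsg.Agent.Lib.Chev.BorelTits

/-!
Root subsystems of simply laced data and the groups of closed sets of their positive roots.
-/

set_option autoImplicit false

namespace Cfsg.Agent.Lib.InvE66

open Cfsg.Lie Cfsg.Agent.Lib.Chev Cfsg.Agent.Lib.ChevCent
open scoped Matrix

/-- A set of roots closed under negatives and sums. -/
structure IsSub (D : ChevalleyDatum) (C : Cert) (Ψ : Set ℕ) : Prop where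
  lt : ∀ r ∈ Ψ, r < D.nroots
  ng_mem : ∀ r ∈ Ψ, ng D r ∈ Ψ
  sum_mem : ∀ r ∈ Ψ, ∀ s ∈ Ψ, prs D C r s = -1 → sumR C r s ∈ Ψ

/-- The roots orthogonal to all roots of a list. -/
def orthSet (D : ChevalleyDatum) (C : Cert) (L : List ℕ) : Set ℕ :=
  {r | r < D.nroots ∧ ∀ β ∈ L, prs D C β r = 0}

/-- The positive roots of a set. -/
def posOf (D : ChevalleyDatum) (Ψ : Set ℕ) : Set ℕ := {r | r ∈ Ψ ∧ r ∈ posSet D}

/-- A positive root which is not the sum of two positive roots of the set. -/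
def Indec (D : ChevalleyDatum) (C : Cert) (Ψ : Set ℕ) (r : ℕ) : Prop :=
  r ∈ posOf D Ψ ∧ ∀ a ∈ posOf D Ψ, ∀ b ∈ posOf D Ψ, prs D C a b = -1 → sumR C a b ≠ r

variable {D : ChevalleyDatum} {C : Cert} {F : Type*} [Field F]

theorem posOf_subset (Ψ : Set ℕ) : posOf D Ψ ⊆ posSet D := fun _ h => h.2

theorem posOf_subset_self (Ψ : Set ℕ) : posOf D Ψ ⊆ Ψ := fun _ h => h.1

namespace Laced

variable (h : Laced D C)
include h

local notation "X" => xg h.toRooted.toChecked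

theorem isSub_orthSet (L : List ℕ) : IsSub D C (orthSet D C L) where
  lt _ hr := hr.1
  ng_mem r hr := ⟨Checked.ng_lt hr.1, fun β hβ => by rw [h.prs_ng hr.1, hr.2 β hβ, neg_zero]⟩
  sum_mem r hr s hs e := ⟨(h.sum_spec hr.1 hs.1 e).1, fun β hβ => by
    rw [h.prs_sum hr.1 hs.1 e, hr.2 β hβ, hs.2 β hβ, add_zero]⟩

theorem sum_comm {r s : ℕ} (hr : r < D.nroots) (hs : s < D.nroots) (e : prs D C r s = -1) :
    sumR C r s = sumR C s r := by
  have e' : prs D C s r = -1 := by rw [h.prs_comm hs hr, e]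
  obtain ⟨a, a', -⟩ := h.sum_spec hr hs e
  obtain ⟨b, b', -⟩ := h.sum_spec hs hr e'
  refine h.eq_of_cd a b ?_
  rw [a' _ h.toRooted.toChecked.isAdd_cd, b' _ h.toRooted.toChecked.isAdd_cd]
  ring

/-- The difference of two roots as a sum with the negative. -/
theorem sub_facts {r s : ℕ} (hr : r < D.nroots) (hs : s < D.nroots) (e : prs D C r s = 1) :
    prs D C r (ng D s) = -1 ∧ sumR C r (ng D s) < D.nroots ∧
      prs D C r (sumR C r (ng D s)) = 1 ∧ prs D C s (sumR C r (ng D s)) = -1 ∧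
      sumR C (sumR C r (ng D s)) s = r ∧
      ∀ φ : ℕ → ℤ, IsAdd D C φ → φ (sumR C r (ng D s)) = φ r - φ s := by
  have hn : ng D s < D.nroots := Checked.ng_lt hs
  have e' : prs D C r (ng D s) = -1 := by rw [h.prs_ng hs, e]
  obtain ⟨hlt, hφ, -⟩ := h.sum_spec hr hn e'
  obtain ⟨δ, hδ, h1, h2, h3, h4⟩ := h.sub_spec hr hs e
  have ed : sumR C r (ng D s) = δ := h.eq_of_cd hlt hδ (by
    rw [hφ _ h.toRooted.toChecked.isAdd_cd, h4 _ h.toRooted.toChecked.isAdd_cd,
      h.toRooted.toChecked.isAdd_cd.map_ng s hs]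
    ring)
  rw [ed]
  exact ⟨e', hδ, h1, h2, by rw [h.sum_comm hδ hs (by rw [h.prs_comm hδ hs, h2]), h3], h4⟩

theorem sub_mem {Ψ : Set ℕ} (hΨ : IsSub D C Ψ) {r s : ℕ} (hr : r ∈ Ψ) (hs : s ∈ Ψ)
    (e : prs D C r s = 1) : sumR C r (ng D s) ∈ Ψ :=
  hΨ.sum_mem r hr _ (hΨ.ng_mem s hs) (h.sub_facts (hΨ.lt r hr) (hΨ.lt s hs) e).1

theorem closed_of_sum {S : Set ℕ} (hS : ∀ r ∈ S, r < D.nroots)
    (hcl : ∀ r ∈ S, ∀ s ∈ S, prs D C r s = -1 → sumR C r s ∈ S) : ClosedSet D C S := by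
  intro r hr s hs h1 h2 c hc
  rcases h.pair_cases (hS r hr) s (hS s hs) h1 h2 with ⟨e, τ, z, hx, -⟩ | ⟨-, hx⟩
  · rw [hx, List.mem_singleton] at hc
    subst hc
    have := hcl r hr s hs e
    simpa [sumR, hx] using this
  · simp [hx] at hc

theorem closed_posOf {Ψ : Set ℕ} (hΨ : IsSub D C Ψ) : ClosedSet D C (posOf D Ψ) :=
  h.closed_of_sum (fun _ hr => hr.2.2) fun r hr s hs e => ⟨hΨ.sum_mem r hr.1 s hs.1 e, h.sum_pos hr.2 hs.2 e⟩

/-- A root normalises the group of a set absorbing its sums. -/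
theorem norm_of_sum {S : Set ℕ} (hS : S ⊆ posSet D) {a : ℕ} (ha : a < D.nroots)
    (hng : ∀ s ∈ S, s ≠ ng D a) (hsum : ∀ s ∈ S, prs D C a s = -1 → sumR C a s ∈ S) (t : F) :
    X a t ∈ Subgroup.normalizer (rootGen D F S : Set (GL D.Idx F)) := by
  refine h.toRooted.toChecked.rootSubgroup_le_normalizer (F := F) (fun s hs => (hS hs).2) ha
    (fun s hs hne => ⟨hng s hs, fun c hc => ?_⟩) ?_
  · rcases h.pair_cases ha s (hS hs).2 hne (hng s hs) with ⟨e, τ, z, hx, -⟩ | ⟨-, hx⟩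
    · rw [hx, List.mem_singleton] at hc
      subst hc
      have := hsum s hs e
      simpa [sumR, hx] using this
    · simp [hx] at hc
  · exact Subgroup.subset_closure ⟨t, coe_xg _ a t⟩

theorem norm_of_pos {S : Set ℕ} (hS : S ⊆ posSet D) {a : ℕ} (ha : a ∈ posSet D)
    (hsum : ∀ s ∈ S, prs D C a s = -1 → sumR C a s ∈ S) (t : F) :
    X a t ∈ Subgroup.normalizer (rootGen D F S : Set (GL D.Idx F)) :=
  h.norm_of_sum hS ha.2 (fun _ hs => Checked.ne_ng_of_pos ha (hS hs) h.toRooted.toChecked.two_mul_half) hsum t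

omit h in
theorem rootGen_le_of_gen (hh : Checked D C) {S : Set ℕ} {H : Subgroup (GL D.Idx F)}
    (hg : ∀ r ∈ S, ∀ t : F, xg hh r t ∈ H) : rootGen D F S ≤ H := by
  refine (Subgroup.closure_le _).2 ?_
  rintro g ⟨r, t, hr, e⟩
  rw [show g = xg hh r t from Units.ext (by rw [e, coe_xg])]
  exact hg r hr t

theorem xg_mem {S : Set ℕ} {r : ℕ} (hr : r ∈ S) (t : F) : X r t ∈ rootGen D F S :=
  xg_mem_rootGen _ hr t

/-- Splitting off one root. -/
theorem split {S : Set ℕ} (hS : S ⊆ posSet D) {γ : ℕ} (hγ : γ ∈ S)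
    (hsum : ∀ s ∈ S, s ≠ γ → prs D C γ s = -1 → sumR C γ s ∈ S ∧ sumR C γ s ≠ γ) {g : GL D.Idx F}
    (hg : g ∈ rootGen D F S) :
    ∃ t : F, ∃ n ∈ rootGen D F (S \ {γ}), g = X γ t * n := by
  have hnorm : D.rootSubgroup F γ ≤ Subgroup.normalizer (rootGen D F (S \ {γ}) : Set (GL D.Idx F)) := by
    intro x hx
    obtain ⟨t, rfl⟩ := (rootSubgroup_eq_range h.toRooted.toChecked γ).1 hx
    exact h.norm_of_pos (fun a ha => hS ha.1) (hS hγ) (fun s hs e => hsum s hs.1 hs.2 e) t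
  have hle : rootGen D F S ≤ D.rootSubgroup F γ ⊔ rootGen D F (S \ {γ}) :=
    rootGen_le_of_gen h.toRooted.toChecked fun s hs t => by
      by_cases e : s = γ
      · subst e
        exact Subgroup.mem_sup_left (Subgroup.subset_closure ⟨t, coe_xg _ _ t⟩)
      · exact Subgroup.mem_sup_right (h.xg_mem (S := S \ {γ}) ⟨hs, e⟩ t)
  have hg' : g ∈ (↑(D.rootSubgroup F γ ⊔ rootGen D F (S \ {γ})) : Set (GL D.Idx F)) := hle hg
  rw [Subgroup.coe_mul_of_left_le_normalizer_right _ _ hnorm] at hg'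
  obtain ⟨x, hx, n, hn, rfl⟩ := hg'
  obtain ⟨t, rfl⟩ := (rootSubgroup_eq_range h.toRooted.toChecked γ).1 hx
  exact ⟨t, n, hn, rfl⟩

theorem xg_eq_one {γ : ℕ} (hγ : γ ∈ posSet D) {t : F} (e : X γ t = 1) : t = 0 := by
  have := word_injective h.toRooted (L := [γ]) (List.pairwise_singleton _ _) (by simpa using hγ)
    (f := fun _ => t) (g := fun _ => 0) (by simp [word, e, xg_zero])
  exact this γ List.mem_cons_self

/-- A root element lies in the group of a closed set of positive roots only if the root does. -/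
theorem xg_mem_iff {S : Set ℕ} (hS : S ⊆ posSet D) (hcl : ClosedSet D C S) {γ : ℕ} (hγ : γ ∈ posSet D)
    (hnot : γ ∉ S) {t : F} (e : X γ t ∈ rootGen D F S) : t = 0 := by
  have h1 : ClosedSet D C {γ} := by
    intro r hr s hs hne _ _ _
    exact absurd (hs.trans hr.symm) hne
  have h2 := h.toRooted.mem_rootGen_inter (S := S) (T := {γ}) hS (by simpa using hγ) hcl h1 e
    (h.xg_mem (S := {γ}) rfl t)
  rw [Set.inter_singleton_eq_empty.2 hnot] at h2
  refine h.xg_eq_one hγ ?_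
  simpa [rootGen] using h2

/-- A congruence for commutators. -/
theorem comm_mem {N : Subgroup (GL D.Idx F)} {S : Set ℕ} {d : GL D.Idx F}
    (hnorm : rootGen D F S ≤ Subgroup.normalizer (N : Set (GL D.Idx F)))
    (hgen : ∀ r ∈ S, ∀ t : F, (X r t)⁻¹ * d * X r t * d⁻¹ ∈ N) {p : GL D.Idx F} (hp : p ∈ rootGen D F S) :
    p⁻¹ * d * p * d⁻¹ ∈ N := by
  induction hp using Subgroup.closure_induction with
  | mem g hg =>
    obtain ⟨r, t, hr, e⟩ := hg
    rw [show g = X r t from Units.ext (by rw [e, coe_xg])]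
    exact hgen r hr t
  | one => simp
  | mul x y _ hy hx' hy' =>
    have h1 := (Subgroup.mem_normalizer_iff.1 (hnorm (inv_mem hy)) _).1 hx'
    have := mul_mem h1 hy'
    convert this using 1
    group
  | inv x hx hx' =>
    have h1 := (Subgroup.mem_normalizer_iff.1 (hnorm hx) _).1 (inv_mem hx')
    convert h1 using 1
    group

/-- The commutator of two root elements. -/
theorem comm_gen [CharP F 2] {N : Subgroup (GL D.Idx F)} {r s : ℕ} (hr : r ∈ posSet D) (hs : s ∈ posSet D)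
    (hterm : prs D C r s = -1 → ∀ t : F, X (sumR C r s) t ∈ N) (a b : F) :
    (X r b)⁻¹ * X s a * X r b * (X s a)⁻¹ ∈ N := by
  have hne := Checked.ne_ng_of_pos hr hs h.toRooted.toChecked.two_mul_half
  rcases h.prs_range hr.2 hs.2 with e | e | e | e | e
  · subst e
    rw [mul_assoc, mul_assoc, ← mul_assoc (X s a), (h.commute_of_nonneg hr.2 hs.2 (by rw [h.prs_self hr.2]; omega) a b).eq]
    simp
  · exact absurd e hne
  · rw [mul_assoc, mul_assoc, ← mul_assoc (X s a), h.conj_sum hr.2 hs.2 e,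
      ← mul_assoc]
    obtain ⟨hlt, -, -⟩ := h.sum_spec hr.2 hs.2 e
    have hc : Commute (X r b) (X (sumR C r s) (a * b)) := h.commute_of_nonneg hr.2 hlt (by
      rw [h.prs_sum hr.2 hs.2 e, h.prs_self hr.2, e]; omega) _ _
    rw [mul_assoc, ← hc.eq, inv_mul_cancel_left]
    exact hterm e _
  all_goals
    rw [mul_assoc, mul_assoc, ← mul_assoc (X s a), (h.commute_of_nonneg hr.2 hs.2 (by omega) b a).symm.eq]
    simp

end Laced

end Cfsg.Agent.Lib.InvE66
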