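import Cfsg.Agent.Lib.InvE66.Sub

/-!
An involution of the positive part of a root subsystem with a nonzero coefficient at an indecomposable root `r`
is conjugate to `x_r(c)` times an involution in the roots orthogonal to `r`.
-/

set_option autoImplicit false

namespace Cfsg.Agent.Lib.InvE66

open Cfsg.Lie Cfsg.Agent.Lib.Chev Cfsg.Agent.Lib.ChevCent
open scoped Matrix

/-- The grading attached to a root: it vanishes on the root. -/
def phiR (D : ChevalleyDatum) (C : Cert) (r γ : ℕ) : ℤ :=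
  2 * Cfsg.Agent.Lib.Chev.ht D C γ - Cfsg.Agent.Lib.Chev.ht D C r * prs D C r γ

/-- The order of treatment. -/
def keyR (D : ChevalleyDatum) (C : Cert) (r γ : ℕ) : ℤ :=
  2 * phiR D C r γ + if prs D C r γ = -1 then 0 else 1

/-- The positive roots of the set other than `r`. -/
def restSet (D : ChevalleyDatum) (Ψ : Set ℕ) (r : ℕ) : Set ℕ := posOf D Ψ \ {r}

/-- The positive roots of the set orthogonal to `r`. -/
def perpSet (D : ChevalleyDatum) (C : Cert) (Ψ : Set ℕ) (r : ℕ) : Set ℕ :=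
  {γ | γ ∈ posOf D Ψ ∧ prs D C r γ = 0}

variable {D : ChevalleyDatum} {C : Cert} {F : Type*} [Field F]

namespace Laced

variable (h : Laced D C)
include h

local notation "X" => xg h.toRooted.toChecked
local notation "hgt" => Cfsg.Agent.Lib.Chev.ht D C

theorem isAdd_phiR (r : ℕ) : IsAdd D C (phiR D C r) := by
  refine ⟨fun a ha => ?_, fun a ha s k u M hk => ?_⟩
  · simp only [phiR, h.toRooted.toChecked.isAdd_ht.map_ng a ha, (h.isAdd_prs r).map_ng a ha]; ring
  · simp only [phiR, h.toRooted.toChecked.isAdd_ht.map_chain a ha s k u M hk,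
      (h.isAdd_prs r).map_chain a ha s k u M hk]
    ring

theorem phiR_self {r : ℕ} (hr : r < D.nroots) : phiR D C r r = 0 := by
  rw [phiR, h.prs_self hr]; ring

theorem commute_rootGen [CharP F 2] {r : ℕ} (hr : r < D.nroots) {S : Set ℕ}
    (hS : ∀ a ∈ S, a < D.nroots ∧ 0 ≤ prs D C r a) (c : F) {q : GL D.Idx F} (hq : q ∈ rootGen D F S) :
    Commute (X r c) q := by
  induction hq using Subgroup.closure_induction with
  | mem g hg =>
    obtain ⟨a, u, ha, e⟩ := hg
    rw [show g = X a u from Units.ext (by rw [e, coe_xg])]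
    exact h.commute_of_nonneg hr (hS a ha).1 (hS a ha).2 _ _
  | one => exact Commute.one_right _
  | mul x y _ _ hx hy => exact hx.mul_right hy
  | inv x _ hx => exact hx.inv_right

variable {Ψ : Set ℕ} (hΨ : IsSub D C Ψ) {r : ℕ} (hr : Indec D C Ψ r)
include hΨ hr

/-- The difference with `r` of a root with pairing one. -/
theorem sub_rest {γ : ℕ} (hγ : γ ∈ restSet D Ψ r) (e : prs D C r γ = 1) :
    sumR C γ (ng D r) ∈ restSet D Ψ r ∧ prs D C r (sumR C γ (ng D r)) = -1 ∧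
      prs D C γ (sumR C γ (ng D r)) = 1 ∧ sumR C (sumR C γ (ng D r)) r = γ ∧
      phiR D C r (sumR C γ (ng D r)) = phiR D C r γ := by
  have hc := h.toRooted.toChecked
  have e' : prs D C γ r = 1 := by rw [h.prs_comm hγ.1.2.2 hr.1.2.2, e]
  obtain ⟨a1, a2, a3, a4, a5, a6⟩ := h.sub_facts hγ.1.2.2 hr.1.2.2 e'
  have hmem : sumR C γ (ng D r) ∈ Ψ := h.sub_mem hΨ hγ.1.1 hr.1.1 e'
  set δ := sumR C γ (ng D r) with hδdef
  have hpos : δ ∈ posSet D := by
    refine ⟨?_, a2⟩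
    by_contra hneg
    have hn : ng D δ ∈ posOf D Ψ :=
      ⟨hΨ.ng_mem δ hmem, by have := hc.two_mul_half; unfold ng; omega, Checked.ng_lt a2⟩
    have e2 : prs D C γ (ng D δ) = -1 := by rw [h.prs_ng a2, a3]
    refine hr.2 γ hγ.1 (ng D δ) hn e2 (h.eq_of_cd (h.sum_spec hγ.1.2.2 hn.2.2 e2).1 hr.1.2.2 ?_)
    rw [(h.sum_spec hγ.1.2.2 hn.2.2 e2).2.1 _ hc.isAdd_cd, hc.isAdd_cd.map_ng δ a2, a6 _ hc.isAdd_cd]
    ring
  have hrδ : prs D C r δ = -1 := a4
  refine ⟨⟨⟨hmem, hpos⟩, ?_⟩, hrδ, a3, a5, ?_⟩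
  · intro e3
    rw [Set.mem_singleton_iff] at e3
    rw [e3, h.prs_self hr.1.2.2] at hrδ
    omega
  · rw [a6 _ (h.isAdd_phiR r), h.phiR_self hr.1.2.2, sub_zero]

theorem phiR_pos {γ : ℕ} (hγ : γ ∈ restSet D Ψ r) : 0 < phiR D C r γ := by
  have hc := h.toRooted.toChecked
  have h1 := hc.ht_pos hγ.1.2.2 hγ.1.2.1
  have h2 := hc.ht_pos hr.1.2.2 hr.1.2.1
  rcases h.prs_range hr.1.2.2 hγ.1.2.2 with e | e | e | e | e
  · exact absurd e hγ.2
  · exact absurd e (Checked.ne_ng_of_pos hr.1.2 hγ.1.2 hc.two_mul_half)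
  · rw [phiR, e]; omega
  · rw [phiR, e]; omega
  · obtain ⟨hδ, -, -, hsum, -⟩ := h.sub_rest hΨ hr hγ e
    have h3 := hc.ht_pos hδ.1.2.2 hδ.1.2.1
    have e4 : prs D C (sumR C γ (ng D r)) r = -1 := by
      rw [h.prs_comm hδ.1.2.2 hr.1.2.2]; exact (h.sub_rest hΨ hr hγ e).2.1
    have := (h.sum_spec hδ.1.2.2 hr.1.2.2 e4).2.1 _ hc.isAdd_ht
    rw [hsum] at this
    rw [phiR, e]; omega

theorem rest_sum {a b : ℕ} (ha : a ∈ restSet D Ψ r) (hb : b ∈ restSet D Ψ r) (e : prs D C a b = -1) :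
    sumR C a b ∈ restSet D Ψ r ∧ phiR D C r a < phiR D C r (sumR C a b) ∧
      phiR D C r b < phiR D C r (sumR C a b) := by
  have h1 := (h.sum_spec ha.1.2.2 hb.1.2.2 e).2.1 _ (h.isAdd_phiR r)
  have h2 := h.phiR_pos hΨ hr ha
  have h3 := h.phiR_pos hΨ hr hb
  exact ⟨⟨⟨hΨ.sum_mem a ha.1.1 b hb.1.1 e, h.sum_pos ha.1.2 hb.1.2 e⟩, hr.2 a ha.1 b hb.1 e⟩,
    by omega, by omega⟩

theorem rest_add {a : ℕ} (ha : a ∈ restSet D Ψ r) (e : prs D C r a = -1) :
    sumR C r a ∈ restSet D Ψ r ∧ prs D C r (sumR C r a) = 1 ∧ prs D C a (sumR C r a) = 1 ∧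
      phiR D C r (sumR C r a) = phiR D C r a := by
  have e1 : prs D C r (sumR C r a) = 1 := by
    rw [h.prs_sum hr.1.2.2 ha.1.2.2 e, h.prs_self hr.1.2.2, e]; ring
  refine ⟨⟨⟨hΨ.sum_mem r hr.1.1 a ha.1.1 e, h.sum_pos hr.1.2 ha.1.2 e⟩, fun e2 => ?_⟩, e1, ?_, ?_⟩
  · rw [Set.mem_singleton_iff] at e2
    rw [e2, h.prs_self hr.1.2.2] at e1
    omega
  · rw [h.prs_sum hr.1.2.2 ha.1.2.2 e, h.prs_comm ha.1.2.2 hr.1.2.2, e, h.prs_self ha.1.2.2]; ring
  · rw [(h.sum_spec hr.1.2.2 ha.1.2.2 e).2.1 _ (h.isAdd_phiR r), h.phiR_self hr.1.2.2, zero_add]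

omit h hΨ hr in
theorem perp_sub_rest (h : Laced D C) (hr : r < D.nroots) : perpSet D C Ψ r ⊆ restSet D Ψ r := fun γ hγ => by
  refine ⟨hγ.1, fun e => ?_⟩
  have h0 := hγ.2
  rw [Set.mem_singleton_iff.1 e, h.prs_self hr] at h0
  omega

/-- The sweep. -/
theorem sweep [CharP F 2] {c : F} (hc : c ≠ 0) : ∀ T : Finset ℕ, (∀ a ∈ T, a ∈ restSet D Ψ r) →
    (∀ a ∈ T, ∀ b ∈ restSet D Ψ r, keyR D C r a < keyR D C r b → b ∈ T) →
    ∀ p ∈ rootGen D F (perpSet D C Ψ r), ∀ w ∈ rootGen D F (T : Set ℕ),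
      X r c * p * w * (X r c * p * w) = 1 →
      ∃ g ∈ rootGen D F Ψ, ∃ p' ∈ rootGen D F (perpSet D C Ψ r),
        g * (X r c * p * w) * g⁻¹ = X r c * p' := by
  intro T
  induction T using Finset.strongInductionOn with
  | _ T ih =>
  intro hsub hup p hp w hw hsq
  have hk := h.toRooted.toChecked
  rcases T.eq_empty_or_nonempty with rfl | hne
  · have : w = 1 := by simpa [rootGen] using hw
    exact ⟨1, one_mem _, p, hp, by simp [this]⟩
  obtain ⟨γ, hγ, hmin⟩ := Finset.exists_min_image T (keyR D C r) hne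
  have hγK := hsub γ hγ
  -- roots of higher grading lie in `T` after `γ`
  have hhigh : ∀ b ∈ restSet D Ψ r, phiR D C r γ < phiR D C r b → b ∈ T ∧ b ≠ γ := fun b hb hlt => by
    refine ⟨hup γ hγ b hb ?_, fun e => by subst e; omega⟩
    simp only [keyR]; split_ifs <;> omega
  have hle : ∀ a ∈ T, phiR D C r γ ≤ phiR D C r a := fun a ha => by
    have := hmin a ha
    simp only [keyR] at this
    split_ifs at this <;> omega
  have hsumT : ∀ a ∈ T, ∀ x ∈ restSet D Ψ r, prs D C x a = -1 →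
      sumR C x a ∈ T ∧ sumR C x a ≠ γ ∧ phiR D C r γ < phiR D C r (sumR C x a) := fun a ha x hx e => by
    obtain ⟨h1, -, h3⟩ := h.rest_sum hΨ hr hx (hsub a ha) e
    have := hle a ha
    exact ⟨(hhigh _ h1 (by omega)).1, (hhigh _ h1 (by omega)).2, by omega⟩
  have hTpos : (T : Set ℕ) ⊆ posSet D := fun a ha => (hsub a ha).1.2
  set T' := T.erase γ with hT'
  have hT'set : ((T : Set ℕ) \ {γ}) = (T' : Set ℕ) := by rw [hT', Finset.coe_erase]
  obtain ⟨t, n, hn, rfl⟩ := h.split (S := (T : Set ℕ)) hTpos hγ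
    (fun s hs hne' e => ⟨(hsumT s hs γ hγK e).1, (hsumT s hs γ hγK e).2.1⟩) hw
  rw [hT'set] at hn
  have hT'sub : ∀ a ∈ T', a ∈ restSet D Ψ r := fun a ha => hsub a (Finset.mem_of_mem_erase ha)
  have hT'up : ∀ a ∈ T', ∀ b ∈ restSet D Ψ r, keyR D C r a < keyR D C r b → b ∈ T' := fun a ha b hb hlt => by
    refine Finset.mem_erase.2 ⟨fun e => ?_, hup a (Finset.mem_of_mem_erase ha) b hb hlt⟩
    subst e
    have := hmin a (Finset.mem_of_mem_erase ha)
    omega
  have hT'lt := Finset.erase_ssubset hγ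
  have hT'pos : (T' : Set ℕ) ⊆ posSet D := fun a ha => (hT'sub a ha).1.2
  -- the roots of `K` normalise the group of `T'`
  have hnK : ∀ x ∈ restSet D Ψ r, ∀ u : F,
      X x u ∈ Subgroup.normalizer (rootGen D F (T' : Set ℕ) : Set (GL D.Idx F)) := fun x hx u =>
    h.norm_of_pos hT'pos hx.1.2 (fun a ha e =>
      Finset.mem_erase.2 ⟨(hsumT a (Finset.mem_of_mem_erase ha) x hx e).2.1,
        (hsumT a (Finset.mem_of_mem_erase ha) x hx e).1⟩) u
  have hperp : perpSet D C Ψ r ⊆ restSet D Ψ r := perp_sub_rest h hr.1.2.2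
  have hRp : ∀ q ∈ rootGen D F (perpSet D C Ψ r), Commute (X r c) q := fun q hq =>
    h.commute_rootGen hr.1.2.2 (fun a ha => ⟨ha.1.2.2, le_of_eq ha.2.symm⟩) c hq
  by_cases ht : t = 0
  · subst ht
    rw [xg_zero, one_mul] at hsq ⊢
    exact ih T' hT'lt hT'sub hT'up p hp n hn hsq
  rcases h.prs_range hr.1.2.2 hγK.1.2.2 with e | e | e | e | e
  · exact absurd e hγK.2
  · exact absurd e (Checked.ne_ng_of_pos hr.1.2 hγK.1.2 hk.two_mul_half)
  · -- pairing `-1`: the square of the element has a nonzero coefficient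
    exfalso
    obtain ⟨hδK, hrδ, hγδ, hδφ⟩ := h.rest_add hΨ hr hγK e
    set δ := sumR C r γ with hδ
    have hδT : δ ∈ T' := by
      have hk' : keyR D C r γ < keyR D C r δ := by
        simp only [keyR, e, hrδ, hδφ]; norm_num
      exact Finset.mem_erase.2 ⟨fun e' => by rw [e'] at hk'; omega, hup γ hγ δ hδK hk'⟩
    set T'' := T'.erase δ with hT''
    have hT''set : ((T' : Set ℕ) \ {δ}) = (T'' : Set ℕ) := by rw [hT'']; exact (Finset.coe_erase δ T').symm
    have hT''mem : ∀ a ∈ T'', a ∈ T ∧ a ≠ γ ∧ a ≠ δ := fun a ha =>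
      ⟨Finset.mem_of_mem_erase (Finset.mem_of_mem_erase ha),
        (Finset.mem_erase.1 (Finset.mem_of_mem_erase ha)).1, (Finset.mem_erase.1 ha).1⟩
    have hhigh'' : ∀ b ∈ restSet D Ψ r, phiR D C r γ < phiR D C r b → b ∈ T'' := fun b hb hlt =>
      Finset.mem_erase.2 ⟨fun e' => by rw [e', hδφ] at hlt; omega,
        Finset.mem_erase.2 ⟨(hhigh b hb hlt).2, (hhigh b hb hlt).1⟩⟩
    have hT''pos : (T'' : Set ℕ) ⊆ posSet D := fun a ha => (hsub a (hT''mem a ha).1).1.2
    obtain ⟨d, n', hn', rfl⟩ := h.split (S := (T' : Set ℕ)) hT'pos hδT (fun s hs hne' e' => by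
      obtain ⟨h1, -, h3⟩ := h.rest_sum hΨ hr hδK (hT'sub s hs) e'
      have := hle s (Finset.mem_of_mem_erase hs)
      have hb := hhigh'' _ h1 (by omega)
      exact ⟨Finset.mem_of_mem_erase hb, (Finset.mem_erase.1 hb).1⟩) hn
    rw [hT''set] at hn'
    set N := rootGen D F (T'' : Set ℕ) with hN
    have hnN : ∀ x ∈ restSet D Ψ r, ∀ u : F, X x u ∈ Subgroup.normalizer (N : Set (GL D.Idx F)) := fun x hx u =>
      h.norm_of_pos hT''pos hx.1.2 (fun a ha e' =>
        hhigh'' _ (h.rest_sum hΨ hr hx (hsub a (hT''mem a ha).1) e').1 (hsumT a (hT''mem a ha).1 x hx e').2.2) u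
    have hRN : X r c ∈ Subgroup.normalizer (N : Set (GL D.Idx F)) :=
      h.norm_of_pos hT''pos hr.1.2 (fun a ha e' => by
        obtain ⟨haT, haγ, -⟩ := hT''mem a ha
        obtain ⟨h1, h2, -, h4⟩ := h.rest_add hΨ hr (hsub a haT) e'
        have hk' : keyR D C r γ < keyR D C r (sumR C r a) := by
          have := hle a haT
          simp only [keyR, e, h2, h4]; norm_num; omega
        refine Finset.mem_erase.2 ⟨fun e2 => haγ ?_, Finset.mem_erase.2 ⟨?_, hup γ hγ _ h1 hk'⟩⟩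
        · refine h.eq_of_cd (hsub a haT).1.2.2 hγK.1.2.2 ?_
          have t1 := (h.sum_spec hr.1.2.2 (hsub a haT).1.2.2 e').2.1 _ hk.isAdd_cd
          have t2 := (h.sum_spec hr.1.2.2 hγK.1.2.2 e).2.1 _ hk.isAdd_cd
          rw [e2, hδ] at t1
          omega
        · intro e2
          rw [e2] at h2
          omega) c
    have hpN : p ∈ Subgroup.normalizer (N : Set (GL D.Idx F)) :=
      rootGen_le_of_gen hk (fun a ha u => hnN a (hperp ha) u) hp
    set R := X r c with hR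
    set G := X γ t with hG
    set E := X δ d with hE
    set E1 := X δ (c * t) with hE1
    have hRE : Commute R E := h.commute_of_nonneg hr.1.2.2 hδK.1.2.2 (by rw [hrδ]; norm_num) _ _
    have hGE : Commute G E := h.commute_of_nonneg hγK.1.2.2 hδK.1.2.2 (by rw [hγδ]; norm_num) _ _
    have hRGR : R * G * R = E1 * G := by
      have := h.conj_sum (F := F) hγK.1.2.2 hr.1.2.2 (by rw [h.prs_comm hγK.1.2.2 hr.1.2.2, e]) c t
      rw [xg_inv_two, ← h.sum_comm hr.1.2.2 hγK.1.2.2 e] at this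
      exact this
    have hGG : G * E * (G * E) = 1 := by
      rw [mul_assoc, ← mul_assoc E G E, hGE.symm.eq, mul_assoc G E E, xg_mul_self, mul_one, xg_mul_self]
    -- commutators with `p` vanish modulo `N`
    have hcomm : ∀ x ∈ restSet D Ψ r, phiR D C r x = phiR D C r γ → ∀ u : F,
        p⁻¹ * X x u * p * (X x u)⁻¹ ∈ N := fun x hx hxφ u =>
      h.comm_mem (rootGen_le_of_gen hk fun a ha u' => hnN a (hperp ha) u')
        (fun a ha u' => h.comm_gen (hperp ha).1.2 hx.1.2 (fun e' v => by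
          obtain ⟨h1, -, h3⟩ := h.rest_sum hΨ hr (hperp ha) hx e'
          exact h.xg_mem (hhigh'' _ h1 (by omega)) v) u u') hp
    set z := R * p * G * E with hz
    have hzN : z ∈ Subgroup.normalizer (N : Set (GL D.Idx F)) :=
      mul_mem (mul_mem (mul_mem hRN hpN) (hnN γ hγK t)) (hnN δ hδK d)
    have hz2 : z * z ∈ N := by
      have hsq' : z * n' * (z * n') = 1 := by rw [← hsq, hz]; simp only [mul_assoc]
      have h2 : z⁻¹ * n' * z ∈ N := by
        have := (Subgroup.mem_normalizer_iff.1 (inv_mem hzN) n').1 hn'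
        rwa [inv_inv] at this
      have e5 : z * z = (z⁻¹ * n' * z * n')⁻¹ := by
        rw [eq_inv_iff_mul_eq_one, ← hsq']; group
      rw [e5]
      exact inv_mem (mul_mem h2 hn')
    have hzz : z * z = p * E1 * (G * E) * p * (G * E) := by
      rw [hz]
      calc R * p * G * E * (R * p * G * E) = R * p * (G * (E * (R * (p * (G * E))))) := by
            simp only [mul_assoc]
        _ = p * R * (G * (E * (R * (p * (G * E))))) := congrArg (· * (G * (E * (R * (p * (G * E)))))) (hRp p hp).eq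
        _ = p * R * G * (E * R) * p * (G * E) := by simp only [mul_assoc]
        _ = p * (R * G * R) * E * p * (G * E) := by rw [← hRE.eq]; simp only [mul_assoc]
        _ = _ := by rw [hRGR]; simp only [mul_assoc]
    have hcG : p⁻¹ * (G * E) * p * (G * E)⁻¹ ∈ N := by
      have h1 := hcomm γ hγK rfl t
      have h2 := hcomm δ hδK hδφ d
      rw [← hG] at h1
      rw [← hE] at h2
      have := mul_mem h1 ((Subgroup.mem_normalizer_iff.1 (hnN γ hγK t) _).1 h2)
      convert this using 1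
      rw [← hG]
      group
    have hcE : p⁻¹ * E1 * p * E1⁻¹ ∈ N := hcomm δ hδK hδφ (c * t)
    -- `p * p` times `E1` lies in `N`
    have hE1inv : E1⁻¹ = E1 := xg_inv_two hk δ _
    have key : p * p * E1 ∈ N := by
      rw [hzz] at hz2
      have hGEinv : (G * E)⁻¹ = G * E := inv_eq_of_mul_eq_one_right hGG
      rw [hGEinv] at hcG
      -- `z * z = (p * E1 * p) * k₁` and `p * E1 * p = p * p * k₂ * E1`
      have e1 : p * E1 * p ∈ N := by
        have h6 : p * E1 * (G * E) * p * (G * E) = p * E1 * p * (p⁻¹ * (G * E) * p * (G * E)) := by group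
        rw [h6] at hz2
        exact (Subgroup.mul_mem_cancel_right _ hcG).1 hz2
      have h7 : p * E1 * p = p * p * (p⁻¹ * E1 * p * E1⁻¹) * (p * p)⁻¹ * (p * p * E1) := by group
      rw [h7] at e1
      exact (Subgroup.mul_mem_cancel_left _
        ((Subgroup.mem_normalizer_iff.1 (mul_mem hpN hpN) _).1 hcE)).1 e1
    have hpp : p * p ∈ rootGen D F (T' : Set ℕ) := by
      have h8 : p * p = p * p * E1 * E1⁻¹ := by group
      rw [h8]
      exact mul_mem (rootGen_mono (Finset.coe_subset.2 (Finset.erase_subset _ _)) key)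
        (inv_mem (h.xg_mem hδT _))
    have hclT' : ClosedSet D C (T' : Set ℕ) := h.closed_of_sum (fun a ha => (hT'pos ha).2) fun a ha b hb e' =>
      Finset.mem_erase.2 ⟨(hsumT b (Finset.mem_of_mem_erase hb) a (hT'sub a ha) e').2.1,
        (hsumT b (Finset.mem_of_mem_erase hb) a (hT'sub a ha) e').1⟩
    have hclC : ClosedSet D C (perpSet D C Ψ r) := h.closed_of_sum (fun a ha => ha.1.2.2) fun a ha b hb e' =>
      ⟨⟨hΨ.sum_mem a ha.1.1 b hb.1.1 e', h.sum_pos ha.1.2 hb.1.2 e'⟩,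
        by rw [h.prs_sum ha.1.2.2 hb.1.2.2 e', ha.2, hb.2, add_zero]⟩
    have hpp' : p * p ∈ N := by
      refine rootGen_mono ?_ (h.toRooted.mem_rootGen_inter (fun a ha => ha.1.2) hT'pos hclC hclT'
        (mul_mem hp hp) hpp)
      rintro a ⟨ha1, ha2⟩
      refine Finset.mem_erase.2 ⟨fun e' => ?_, ha2⟩
      rw [e'] at ha1
      have := ha1.2
      omega
    have hclT'' : ClosedSet D C (T'' : Set ℕ) := h.closed_of_sum (fun a ha => (hT''pos ha).2) fun a ha b hb e' =>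
      hhigh'' _ (h.rest_sum hΨ hr (hsub a (hT''mem a ha).1) (hsub b (hT''mem b hb).1) e').1
        (hsumT b (hT''mem b hb).1 a (hsub a (hT''mem a ha).1) e').2.2
    have := h.xg_mem_iff hT''pos hclT'' hδK.1.2 (by simp [hT'']) ((Subgroup.mul_mem_cancel_left _ hpp').1 key)
    exact mul_ne_zero hc ht this
  · -- pairing zero
    have hγC : γ ∈ perpSet D C Ψ r := ⟨hγK.1, e⟩
    have e2 : X r c * p * (X γ t * n) = X r c * (p * X γ t) * n := by simp only [mul_assoc]
    rw [e2] at hsq ⊢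
    exact ih T' hT'lt hT'sub hT'up _ (mul_mem hp (h.xg_mem hγC t)) n hn hsq
  · -- pairing one: the coefficient is removed by conjugation
    obtain ⟨hδK, hrδ, hγδ, hsum, hδφ⟩ := h.sub_rest hΨ hr hγK e
    set δ := sumR C γ (ng D r) with hδ
    set s := t / c with hs
    set N := rootGen D F (T' : Set ℕ) with hN
    set R := X r c with hR
    set G := X γ t with hG
    set d := X δ s with hd
    have hdG : Commute d G := h.commute_of_nonneg hδK.1.2.2 hγK.1.2.2 (by
      rw [h.prs_comm hδK.1.2.2 hγK.1.2.2, hγδ]; norm_num) _ _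
    have hdR : d * R * d⁻¹ = G * R := by
      have e3 := h.conj_sum (F := F) hr.1.2.2 hδK.1.2.2 hrδ s c
      rw [h.sum_comm hr.1.2.2 hδK.1.2.2 hrδ, hsum, show s * c = t by rw [hs, div_mul_cancel₀ _ hc]] at e3
      exact e3
    have hRG : Commute R G := h.commute_of_nonneg hr.1.2.2 hγK.1.2.2 (by rw [e]; norm_num) _ _
    have hpN : rootGen D F (perpSet D C Ψ r) ≤ Subgroup.normalizer (N : Set (GL D.Idx F)) :=
      rootGen_le_of_gen hk fun a ha u => hnK a (hperp ha) u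
    have hcomm : ∀ x ∈ restSet D Ψ r, phiR D C r x = phiR D C r γ → ∀ u : F,
        p⁻¹ * X x u * p * (X x u)⁻¹ ∈ N := fun x hx hxφ u =>
      h.comm_mem hpN (fun a ha u' => h.comm_gen (hperp ha).1.2 hx.1.2 (fun e' v => by
          obtain ⟨h1, -, h3⟩ := h.rest_sum hΨ hr (hperp ha) hx e'
          exact h.xg_mem (Finset.mem_erase.2 ⟨(hhigh _ h1 (by omega)).2, (hhigh _ h1 (by omega)).1⟩) v) u u') hp
    have hk1 := hcomm δ hδK hδφ s
    have hk2 := hcomm γ hγK rfl t
    rw [← hd] at hk1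
    rw [← hG] at hk2
    have hn' : d * n * d⁻¹ ∈ N := (Subgroup.mem_normalizer_iff.1 (hnK δ hδK s) _).1 hn
    have hGN : G ∈ Subgroup.normalizer (N : Set (GL D.Idx F)) := hnK γ hγK t
    have hGinv : G⁻¹ = G := xg_inv_two hk γ t
    -- the conjugate is `R p` times an element of `N`
    set n'' := p⁻¹ * G * p * G⁻¹ * (G * (p⁻¹ * d * p * d⁻¹) * G⁻¹) * (d * n * d⁻¹) with hn''
    have hn''N : n'' ∈ N := mul_mem (mul_mem hk2 ((Subgroup.mem_normalizer_iff.1 hGN _).1 hk1)) hn'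
    have hconj : d * (R * p * (G * n)) * d⁻¹ = R * p * n'' := by
      calc d * (R * p * (G * n)) * d⁻¹ = d * R * d⁻¹ * (p * (p⁻¹ * d * p * d⁻¹)) * (d * G * d⁻¹) * (d * n * d⁻¹) := by
            group
        _ = R * G * (p * (p⁻¹ * d * p * d⁻¹)) * G⁻¹ * (d * n * d⁻¹) := by
            rw [hdR, hdG.eq, mul_inv_cancel_right, ← hRG.eq, hGinv]
        _ = _ := by rw [hn'']; group
    have hsq' : R * p * n'' * (R * p * n'') = 1 := by
      rw [← hconj]
      calc _ = d * (R * p * (G * n) * (R * p * (G * n))) * d⁻¹ := by group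
        _ = 1 := by rw [hsq]; group
    obtain ⟨g, hg, p', hp', eg⟩ := ih T' hT'lt hT'sub hT'up p hp n'' hn''N hsq'
    refine ⟨g * d, mul_mem hg (h.xg_mem hδK.1.1 s), p', hp', ?_⟩
    rw [← eg, ← hconj]
    group

/-- Reduction to the roots orthogonal to `r`. -/
theorem reduce [CharP F 2] {u : GL D.Idx F} (hu : u ∈ rootGen D F (posOf D Ψ)) (hsq : u * u = 1)
    (hnot : u ∉ rootGen D F (restSet D Ψ r)) :
    ∃ c : F, c ≠ 0 ∧ ∃ g ∈ rootGen D F Ψ, ∃ p ∈ rootGen D F (perpSet D C Ψ r),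
      g * u * g⁻¹ = X r c * p ∧ p * p = 1 := by
  classical
  have hk := h.toRooted.toChecked
  obtain ⟨c, n, hn, rfl⟩ := h.split (posOf_subset Ψ) hr.1 (fun s hs _ e =>
    ⟨⟨hΨ.sum_mem r hr.1.1 s hs.1 e, h.sum_pos hr.1.2 hs.2 e⟩, hr.2 r hr.1 s hs e⟩) hu
  have hc : c ≠ 0 := by
    rintro rfl
    rw [xg_zero, one_mul] at hnot
    exact hnot hn
  set T : Finset ℕ := (Finset.range D.nroots).filter (· ∈ restSet D Ψ r) with hT
  have hTset : (T : Set ℕ) = restSet D Ψ r := by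
    ext a
    simp only [hT, Finset.coe_filter, Finset.mem_range, Set.mem_setOf_eq]
    exact ⟨fun ha => ha.2, fun ha => ⟨ha.1.2.2, ha⟩⟩
  have hmem : ∀ a, a ∈ T ↔ a ∈ restSet D Ψ r := fun a => by rw [← hTset]; rfl
  obtain ⟨g, hg, p, hp, eg⟩ := h.sweep hΨ hr hc T (fun a ha => (hmem a).1 ha)
    (fun a _ b hb _ => (hmem b).2 hb) 1 (one_mem _) n (by rw [hTset]; exact hn) (by simpa using hsq)
  rw [mul_one] at eg
  refine ⟨c, hc, g, hg, p, hp, eg, ?_⟩
  have hcm : Commute (X r c) p :=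
    h.commute_rootGen hr.1.2.2 (fun a ha => ⟨ha.1.2.2, le_of_eq ha.2.symm⟩) c hp
  have h2 : (X r c * p) * (X r c * p) = 1 := by
    rw [← eg]
    calc _ = g * (X r c * n * (X r c * n)) * g⁻¹ := by group
      _ = 1 := by rw [hsq]; group
  rw [← hcm.mul_mul_mul_comm, xg_mul_self, one_mul] at h2
  exact h2

end Laced

end Cfsg.Agent.Lib.InvE66
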